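import Groth.Agent.AbhyankarAbs.Local
import Groth.Agent.WeakUnram.RootTame
import Groth.Prelude.Def_SGA1

/-! Tame covers of the complement of a normal crossings divisor under change of the base. -/

set_option autoImplicit false
universe u

namespace Groth.Agent.AbhyankarAbs
open IsLocalRing TensorProduct

/-- Fields of fractions of residue rings. -/
theorem residueField_fractions {S : Type u} [CommRing S] (P : Ideal S) [P.IsPrime] (x : P.ResidueField) :
    ∃ u v : S, algebraMap S P.ResidueField v ≠ 0 ∧ x * algebraMap S P.ResidueField v = algebraMap S P.ResidueField u := by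
  obtain ⟨a, b, hb, rfl⟩ := IsFractionRing.div_surjective (S ⧸ P) x
  obtain ⟨a, rfl⟩ := Ideal.Quotient.mk_surjective a
  obtain ⟨b, rfl⟩ := Ideal.Quotient.mk_surjective b
  have hb0 : algebraMap (S ⧸ P) P.ResidueField (Ideal.Quotient.mk P b) ≠ 0 :=
    (map_ne_zero_iff _ (IsFractionRing.injective (S ⧸ P) P.ResidueField)).2 (nonZeroDivisors.ne_zero hb)
  exact ⟨a, b, hb0, div_mul_cancel₀ _ hb0⟩

/-- Residue fields over the generic point of a finite étale cover are finite separable. -/
theorem separable_finite_of_etale {R : Type u} [CommRing R] [IsDomain R] (F : R) (hF : F ≠ 0)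
    {S : Type u} [CommRing S] [Algebra R S] [Algebra (Localization.Away F) S] [IsScalarTower R (Localization.Away F) S]
    [Algebra.Etale (Localization.Away F) S] [Module.Finite (Localization.Away F) S]
    (K : Type u) [Field K] [Algebra R K] [IsFractionRing R K] {L : Type u} [Field L] [Algebra R L] [Algebra K L]
    [IsScalarTower R K L] (φ : S →ₐ[R] L) (hfr : ∀ x : L, ∃ u v : S, φ v ≠ 0 ∧ x * φ v = φ u) :
    FiniteDimensional K L ∧ Algebra.IsSeparable K L := by
  let RF := Localization.Away F
  have hle : Submonoid.powers F ≤ nonZeroDivisors R := powers_le_nonZeroDivisors_of_noZeroDivisors hF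
  have hu : ∀ s : Submonoid.powers F, IsUnit (algebraMap R K s) := fun s =>
    isUnit_iff_ne_zero.2 ((map_ne_zero_iff _ (IsFractionRing.injective R K)).2 (nonZeroDivisors.ne_zero (hle s.2)))
  letI : Algebra RF K := (IsLocalization.lift (M := Submonoid.powers F) hu).toAlgebra
  haveI : IsScalarTower R RF K := IsScalarTower.of_algebraMap_eq fun r =>
    (IsLocalization.lift_eq (M := Submonoid.powers F) hu r).symm
  letI : Algebra RF L := ((algebraMap K L).comp (algebraMap RF K)).toAlgebra
  haveI : IsScalarTower RF K L := IsScalarTower.of_algebraMap_eq' rfl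
  let φF : S →ₐ[RF] L :=
    { φ.toRingHom with
      commutes' := fun x => RingHom.congr_fun (IsLocalization.ringHom_ext (Submonoid.powers F)
        (j := φ.toRingHom.comp (algebraMap RF S)) (k := algebraMap RF L) (RingHom.ext fun r => by
          show φ (algebraMap RF S (algebraMap R RF r)) = algebraMap K L (algebraMap RF K (algebraMap R RF r))
          rw [← IsScalarTower.algebraMap_apply, φ.commutes, ← IsScalarTower.algebraMap_apply R RF K,
            ← IsScalarTower.algebraMap_apply])) x }
  let Ψ : K ⊗[RF] S →ₐ[K] L := Algebra.TensorProduct.lift (Algebra.ofId K L) φF (fun _ _ => Commute.all _ _)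
  have hΨ : ∀ s, Ψ (1 ⊗ₜ[RF] s) = φ s := fun s => by
    rw [Algebra.TensorProduct.lift_tmul, map_one, one_mul]; rfl
  haveI : Module.Finite K Ψ.range := Module.Finite.range Ψ.toLinearMap
  haveI : Algebra.IsAlgebraic K Ψ.range := Algebra.IsAlgebraic.of_finite K _
  have hsurj : Function.Surjective Ψ := fun x => by
    obtain ⟨u, v, hv, h⟩ := hfr x
    have hu' : φ u ∈ Ψ.range := ⟨_, hΨ u⟩
    have hv' : φ v ∈ Ψ.range := ⟨_, hΨ v⟩
    have hx : x ∈ Ψ.range := by
      rw [eq_div_of_mul_eq hv h, div_eq_mul_inv]
      exact Subalgebra.mul_mem _ hu' (Subalgebra.inv_mem_of_algebraic Ψ.range (x := ⟨_, hv'⟩)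
        ((Algebra.IsAlgebraic.isAlgebraic (R := K) (⟨_, hv'⟩ : Ψ.range)).algHom Ψ.range.val))
    exact hx
  haveI : FiniteDimensional K L := Module.Finite.of_surjective Ψ.toLinearMap hsurj
  haveI : Algebra.FormallyUnramified K L := Algebra.FormallyUnramified.of_surjective Ψ hsurj
  exact ⟨inferInstance, Algebra.FormallyUnramified.isSeparable K L⟩

/-- The divisibility of the Kummer ramification index at a place over `fᵢ`. -/
theorem dvd_ramificationIdx' {A B : Type u} [CommRing A] [IsDomain A] [IsDiscreteValuationRing A] [CommRing B]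
    [IsDomain B] [IsDiscreteValuationRing B] [Algebra A B] [IsLocalHom (algebraMap A B)]
    (hinj : Function.Injective (algebraMap A B)) {π : A} (hπ : Irreducible π) (x : B) (n : ℕ)
    (hx : x ^ n = algebraMap A B π) : n ∣ Ideal.ramificationIdx' (maximalIdeal A) (maximalIdeal B) := by
  obtain ⟨ϖ, hϖ⟩ := IsDiscreteValuationRing.exists_irreducible B
  obtain ⟨u, hu, -⟩ := WeakUnram.exists_eq_unit_mul_pow hinj hπ hϖ
  have hπ0 : algebraMap A B π ≠ 0 := (map_ne_zero_iff _ hinj).2 hπ.ne_zero
  rcases Nat.eq_zero_or_pos n with rfl | hn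
  · rw [pow_zero] at hx
    exact absurd (isUnit_of_map_unit (algebraMap A B) π (hx ▸ isUnit_one)) hπ.not_isUnit
  have hx0 : x ≠ 0 := fun h => hπ0 (by rw [← hx, h, zero_pow hn.ne'])
  obtain ⟨k, w, hw⟩ := IsDiscreteValuationRing.eq_unit_mul_pow_irreducible hx0 hϖ
  rw [hw, mul_pow, ← pow_mul, ← Units.val_pow_eq_pow_val] at hx
  rw [hu] at hx
  exact ⟨k, by rw [mul_comm n k]; exact (IsDiscreteValuationRing.unit_mul_pow_congr_pow hϖ hϖ _ _ _ _ hx).symm⟩

/-- All ramification indices of the cover above `P` divide `m`. -/
def DvdAt {A R : Type u} [CommRing A] [CommRing R] (φ : A →+* R) (P : Ideal A) [P.IsPrime] (m : ℕ) : Prop :=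
  ∀ (q : Ideal R) [q.IsPrime] (hq : q.comap φ = ⊥) (V : ValuationSubring q.ResidueField)
    (hV : EtRam.Dominates (Localization.AtPrime P) (SGA1.genericResidueMap φ P q hq) V),
    letI : Algebra (Localization.AtPrime P) V :=
      (RingHom.codRestrict (SGA1.genericResidueMap φ P q hq) V hV.1).toAlgebra
    Ideal.ramificationIdx' (maximalIdeal (Localization.AtPrime P)) (maximalIdeal V) ∣ m

theorem genericResidueMap_algebraMap {A R : Type u} [CommRing A] [CommRing R] (φ : A →+* R) (P : Ideal A) [P.IsPrime]
    (q : Ideal R) [q.IsPrime] (hq : q.comap φ = ⊥) (a : A) :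
    SGA1.genericResidueMap φ P q hq (algebraMap A (Localization.AtPrime P) a) = algebraMap R q.ResidueField (φ a) :=
  IsLocalization.lift_eq _ a

theorem isDVR_span {A : Type u} [CommRing A] [IsDomain A] [IsNoetherianRing A] {π : A} (hπ0 : π ≠ 0)
    [(Ideal.span {π}).IsPrime] : IsDiscreteValuationRing (Localization.AtPrime (Ideal.span {π})) := by
  haveI : IsNoetherianRing (Localization.AtPrime (Ideal.span {π})) :=
    IsLocalization.isNoetherianRing (Ideal.span {π}).primeCompl _ inferInstance
  have hπ : maximalIdeal (Localization.AtPrime (Ideal.span {π})) = Ideal.span {algebraMap A _ π} := by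
    rw [← Localization.AtPrime.map_eq_maximalIdeal, Ideal.map_span, Set.image_singleton]
  exact ((IsDiscreteValuationRing.TFAE _ (fun hF => by
    have hb := (isField_iff_maximalIdeal_eq).1 hF
    rw [hπ, Ideal.span_singleton_eq_bot, map_eq_zero_iff _
      (IsLocalization.injective _ (Ideal.span {π}).primeCompl_le_nonZeroDivisors)] at hb
    exact hπ0 hb)).out 4 0 rfl rfl).1 ⟨⟨_, hπ⟩⟩

theorem irreducible_span {A : Type u} [CommRing A] [IsDomain A] {π : A} [(Ideal.span {π}).IsPrime]
    [IsDiscreteValuationRing (Localization.AtPrime (Ideal.span {π}))] :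
    Irreducible (algebraMap A (Localization.AtPrime (Ideal.span {π})) π) :=
  (IsDiscreteValuationRing.irreducible_iff_uniformizer _).2 (by
    rw [← Localization.AtPrime.map_eq_maximalIdeal, Ideal.map_span, Set.image_singleton])

theorem etale_tensor {A : Type u} [CommRing A] (F : A) (R : Type u) [CommRing R] [Algebra A R]
    [Algebra (Localization.Away F) R] [IsScalarTower A (Localization.Away F) R] [Algebra.Etale (Localization.Away F) R]
    (A' : Type u) [CommRing A'] [Algebra A A'] [Algebra (Localization.Away (algebraMap A A' F)) (A' ⊗[A] R)]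
    [IsScalarTower A' (Localization.Away (algebraMap A A' F)) (A' ⊗[A] R)] :
    Algebra.Etale (Localization.Away (algebraMap A A' F)) (A' ⊗[A] R) := by
  haveI : Algebra.Etale A (Localization.Away F) := Algebra.Etale.of_isLocalizationAway F
  haveI : Algebra.Etale A R := Algebra.Etale.comp A (Localization.Away F) R
  haveI : Algebra.Etale A' (A' ⊗[A] R) := inferInstance
  exact
    { formallyEtale := Algebra.FormallyEtale.localization_base (Submonoid.powers (algebraMap A A' F)) (R := A')
        (Rₘ := Localization.Away (algebraMap A A' F))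
      finitePresentation := Algebra.FinitePresentation.of_restrict_scalars_finitePresentation A' _ _ }

theorem finite_tensor {A : Type u} [CommRing A] (F : A) (R : Type u) [CommRing R] [Algebra A R]
    [Algebra (Localization.Away F) R] [IsScalarTower A (Localization.Away F) R] [Module.Finite (Localization.Away F) R]
    (A' : Type u) [CommRing A'] [Algebra A A'] [Algebra (Localization.Away (algebraMap A A' F)) (A' ⊗[A] R)]
    [IsScalarTower A' (Localization.Away (algebraMap A A' F)) (A' ⊗[A] R)] :
    Module.Finite (Localization.Away (algebraMap A A' F)) (A' ⊗[A] R) := by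
  classical
  let F' := algebraMap A A' F
  let A'F := Localization.Away F'
  let T := A' ⊗[A] R
  obtain ⟨s, hs⟩ := Module.Finite.fg_top (R := Localization.Away F) (M := R)
  refine ⟨⟨s.image (fun x => (1 : A') ⊗ₜ[A] x), ?_⟩⟩
  refine top_unique fun t _ => ?_
  let N := Submodule.span A'F ((s.image (fun x => (1 : A') ⊗ₜ[A] x) : Finset T) : Set T)
  show t ∈ N
  have hR : ∀ x : R, (1 : A') ⊗ₜ[A] x ∈ N := by
    intro x
    have hx : x ∈ Submodule.span (Localization.Away F) (s : Set R) := hs ▸ Submodule.mem_top
    induction hx using Submodule.span_induction with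
    | mem y hy => exact Submodule.subset_span (Finset.mem_coe.2 (Finset.mem_image_of_mem _ (Finset.mem_coe.1 hy)))
    | zero => rw [tmul_zero]; exact N.zero_mem
    | add y z _ _ hy hz => rw [tmul_add]; exact N.add_mem hy hz
    | smul c y _ hy =>
      obtain ⟨a, ⟨_, m, rfl⟩, rfl⟩ := IsLocalization.exists_mk'_eq (Submonoid.powers F) c
      have hFu : IsUnit (algebraMap A' A'F F' ^ m) := (IsLocalization.Away.algebraMap_isUnit F').pow m
      suffices h : algebraMap A' A'F F' ^ m • ((1 : A') ⊗ₜ[A] (IsLocalization.mk' (M := Submonoid.powers F) (Localization.Away F) a ⟨F ^ m, m, rfl⟩ • y)) =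
          algebraMap A' A'F (algebraMap A A' a) • ((1 : A') ⊗ₜ[A] y) by
        have h2 := N.smul_mem (↑hFu.unit⁻¹ : A'F) (h ▸ N.smul_mem (algebraMap A' A'F (algebraMap A A' a)) hy)
        rwa [← mul_smul, IsUnit.val_inv_mul, one_smul] at h2
      rw [← map_pow, ← map_pow, algebraMap_smul, algebraMap_smul, algebraMap_smul, algebraMap_smul,
        ← tmul_smul, ← tmul_smul]
      congr 1
      rw [← algebraMap_smul (Localization.Away F) (F ^ m), ← algebraMap_smul (Localization.Away F) a y, ← mul_smul,
        mul_comm, IsLocalization.mk'_spec]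
  induction t with
  | zero => exact N.zero_mem
  | add y z hy hz => exact N.add_mem (hy Submodule.mem_top) (hz Submodule.mem_top)
  | tmul a x =>
    rw [show a ⊗ₜ[A] x = algebraMap A' A'F a • ((1 : A') ⊗ₜ[A] x) by
      rw [algebraMap_smul, TensorProduct.smul_tmul', smul_eq_mul, mul_one]]
    exact N.smul_mem _ (hR x)

theorem exists_algebra_tensor {A : Type u} [CommRing A] (F : A) (R : Type u) [CommRing R] [Algebra A R]
    [Algebra (Localization.Away F) R] [IsScalarTower A (Localization.Away F) R]
    (A' : Type u) [CommRing A'] [Algebra A A'] :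
    ∃ _ : Algebra (Localization.Away (algebraMap A A' F)) (A' ⊗[A] R),
      IsScalarTower A' (Localization.Away (algebraMap A A' F)) (A' ⊗[A] R) := by
  let F' := algebraMap A A' F
  have hFT : ∀ s : Submonoid.powers F', IsUnit (algebraMap A' (A' ⊗[A] R) s) := by
    rintro ⟨_, m, rfl⟩
    rw [map_pow, show algebraMap A' (A' ⊗[A] R) F' = (1 : A') ⊗ₜ[A] algebraMap A R F from
      (Algebra.TensorProduct.includeLeft : A' →ₐ[A] A' ⊗[A] R).commutes F |>.trans
        ((Algebra.TensorProduct.includeRight : R →ₐ[A] A' ⊗[A] R).commutes F).symm]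
    refine IsUnit.pow m (IsUnit.map (Algebra.TensorProduct.includeRight : R →ₐ[A] A' ⊗[A] R) ?_)
    rw [IsScalarTower.algebraMap_apply A (Localization.Away F) R]
    exact (IsLocalization.Away.algebraMap_isUnit F).map _
  letI : Algebra (Localization.Away F') (A' ⊗[A] R) := (IsLocalization.lift (M := Submonoid.powers F') hFT).toAlgebra
  exact ⟨inferInstance, IsScalarTower.of_algebraMap_eq fun a =>
    (IsLocalization.lift_eq (M := Submonoid.powers F') hFT a).symm⟩

section Cover

variable {A : Type u} [CommRing A] [IsDomain A] {F : A} {R : Type u} [CommRing R] [Algebra A R]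
  [Algebra (Localization.Away F) R] [IsScalarTower A (Localization.Away F) R]
  [Algebra.Etale (Localization.Away F) R] [Module.Finite (Localization.Away F) R]

include F in
/-- A tame cover has exponents clearing its ramification. -/
theorem exists_dvdAt [IsNoetherianRing A] (hF : F ≠ 0) (P : Ideal A) [P.IsPrime]
    [IsDiscreteValuationRing (Localization.AtPrime P)]
    (ht : ∀ (q : Ideal R) [q.IsPrime] (hq : q.comap (algebraMap A R) = ⊥),
      EtRam.IsTamelyRamified (Localization.AtPrime P) (SGA1.genericResidueMap (algebraMap A R) P q hq)) :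
    ∃ e₀ : ℕ, 0 < e₀ ∧ (e₀ : ResidueField (Localization.AtPrime P)) ≠ 0 ∧ DvdAt (algebraMap A R) P e₀ := by
  classical
  let K := FractionRing A
  let Ai := Localization.AtPrime P
  let G := {q : Ideal R // q.IsPrime ∧ q.comap (algebraMap A R) = ⊥}
  haveI : Finite G := by
    haveI : IsNoetherianRing (Localization.Away F) := IsLocalization.isNoetherianRing (Submonoid.powers F) _ inferInstance
    haveI : IsNoetherianRing R := IsNoetherianRing.of_finite (Localization.Away F) R
    haveI := (Algebra.QuasiFinite.finite_primesOver (R := Localization.Away F) (S := R) (⊥ : Ideal (Localization.Away F))).to_subtype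
    refine Finite.of_injective (β := ↥((⊥ : Ideal (Localization.Away F)).primesOver R))
      (fun q : G => ⟨q.1, q.2.1, ⟨?_⟩⟩) ?_
    · symm
      haveI := q.2.1
      rw [eq_bot_iff]
      intro x hx
      obtain ⟨a, s, rfl⟩ := IsLocalization.exists_mk'_eq (Submonoid.powers F) x
      have h1 : algebraMap A R a ∈ q.1 := by
        rw [IsScalarTower.algebraMap_apply A (Localization.Away F) R, ← IsLocalization.mk'_spec (Localization.Away F) a s,
          map_mul]
        exact q.1.mul_mem_right _ hx
      have h2 : a = 0 := by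
        rw [← Ideal.mem_bot, ← q.2.2]; exact h1
      rw [h2, IsLocalization.mk'_zero]; exact Ideal.zero_mem _
    · exact fun q q' h => Subtype.ext (congrArg (fun z : ↥((⊥ : Ideal (Localization.Away F)).primesOver R) => (z : Ideal R)) h)
  have hu : ∀ s : P.primeCompl, IsUnit (algebraMap A K s) := fun s =>
    isUnit_iff_ne_zero.2 ((map_ne_zero_iff _ (IsFractionRing.injective A K)).2 fun h => s.2 (h ▸ Ideal.zero_mem _))
  letI : Algebra Ai K := (IsLocalization.lift (M := P.primeCompl) hu).toAlgebra
  haveI : IsScalarTower A Ai K := IsScalarTower.of_algebraMap_eq fun a =>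
    (IsLocalization.lift_eq (M := P.primeCompl) hu a).symm
  haveI : IsFractionRing Ai K := IsFractionRing.isFractionRing_of_isDomain_of_isLocalization P.primeCompl Ai K
  have hq : ∀ q : G, ∃ (e₀ : ℕ), 0 < e₀ ∧ (e₀ : ResidueField Ai) ≠ 0 ∧
      ∀ [q.1.IsPrime] (V : ValuationSubring q.1.ResidueField)
        (hV : EtRam.Dominates Ai (SGA1.genericResidueMap (algebraMap A R) P q.1 q.2.2) V),
        letI : Algebra Ai V :=
          (RingHom.codRestrict (SGA1.genericResidueMap (algebraMap A R) P q.1 q.2.2) V hV.1).toAlgebra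
        Ideal.ramificationIdx' (maximalIdeal Ai) (maximalIdeal V) ∣ e₀ := by
    intro q
    haveI := q.2.1
    let ψ : R →ₐ[A] q.1.ResidueField := IsScalarTower.toAlgHom A R q.1.ResidueField
    have hinjA : Function.Injective (algebraMap A q.1.ResidueField) := by
      rw [IsScalarTower.algebraMap_eq A R q.1.ResidueField, RingHom.injective_iff_ker_eq_bot, ← RingHom.comap_ker,
        Ideal.ker_algebraMap_residueField]
      exact q.2.2
    letI : Algebra K q.1.ResidueField := (IsFractionRing.lift hinjA).toAlgebra
    haveI : IsScalarTower A K q.1.ResidueField :=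
      IsScalarTower.of_algebraMap_eq fun a => (IsFractionRing.lift_algebraMap hinjA a).symm
    obtain ⟨hfd, hsp⟩ := separable_finite_of_etale F hF K ψ (residueField_fractions q.1)
    have hgen : SGA1.genericResidueMap (algebraMap A R) P q.1 q.2.2 =
        (algebraMap K q.1.ResidueField).comp (algebraMap Ai K) :=
      IsLocalization.ringHom_ext P.primeCompl (RingHom.ext fun a => by
        show SGA1.genericResidueMap (algebraMap A R) P q.1 q.2.2 (algebraMap A Ai a) =
          algebraMap K q.1.ResidueField (algebraMap Ai K (algebraMap A Ai a))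
        rw [← IsScalarTower.algebraMap_apply A Ai K, ← IsScalarTower.algebraMap_apply A K q.1.ResidueField,
          IsScalarTower.algebraMap_apply A R q.1.ResidueField, genericResidueMap_algebraMap])
    obtain ⟨e₀, he₀, hek, hdvd⟩ := WeakUnram.exists_uniform_index (hgen ▸ ht q.1 q.2.2)
    refine ⟨e₀, he₀, hek, ?_⟩
    intro _ V hV
    revert hV
    rw [hgen]
    exact fun hV => hdvd V hV
  choose e₀ he₀ hek hdvd using hq
  haveI : Fintype G := Fintype.ofFinite G
  refine ⟨∏ q : G, e₀ q, Finset.prod_pos fun q _ => he₀ q, ?_, ?_⟩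
  · rw [Nat.cast_prod]; exact Finset.prod_ne_zero_iff.2 fun q _ => hek q
  · intro q _ hq V hV
    exact (@hdvd ⟨q, inferInstance, hq⟩ _ V hV).trans
      (Finset.dvd_prod_of_mem (fun q : G => e₀ q) (Finset.mem_univ _))

include F in
/-- At a place of the new base the cover stays tame, and becomes unramified once the root is deep enough. -/
theorem fibre_place (hF : F ≠ 0) (A' : Type u) [CommRing A'] [IsDomain A'] [Algebra A A']
    (hinjA' : Function.Injective (algebraMap A A')) (π : A) [(Ideal.span {π}).IsPrime]
    [IsDiscreteValuationRing (Localization.AtPrime (Ideal.span {π}))]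
    (ht : ∀ (q : Ideal R) [q.IsPrime] (hq : q.comap (algebraMap A R) = ⊥),
      EtRam.IsTamelyRamified (Localization.AtPrime (Ideal.span {π}))
        (SGA1.genericResidueMap (algebraMap A R) (Ideal.span {π}) q hq))
    (p : Ideal A') [p.IsPrime] [IsDiscreteValuationRing (Localization.AtPrime p)]
    (hp : p.comap (algebraMap A A') = Ideal.span {π})
    (P : Ideal (A' ⊗[A] R)) [P.IsPrime] (hP : P.comap (algebraMap A' (A' ⊗[A] R)) = ⊥) :
    EtRam.IsTamelyRamified (Localization.AtPrime p) (SGA1.genericResidueMap (algebraMap A' (A' ⊗[A] R)) p P hP) ∧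
      ∀ (m : ℕ) (x : A'), x ^ m = algebraMap A A' π → DvdAt (algebraMap A R) (Ideal.span {π}) m →
        EtRam.IsUnramifiedExt (Localization.AtPrime p) (SGA1.genericResidueMap (algebraMap A' (A' ⊗[A] R)) p P hP) := by
  classical
  let K := FractionRing A
  let K' := FractionRing A'
  let L := P.ResidueField
  let T := A' ⊗[A] R
  let Ai := Localization.AtPrime (Ideal.span {π})
  let Bp := Localization.AtPrime p
  haveI : p.LiesOver (Ideal.span {π}) := ⟨hp.symm⟩
  letI := Localization.AtPrime.algebraOfLiesOver (Ideal.span {π}) p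
  haveI : IsScalarTower A Ai Bp := IsScalarTower.of_algebraMap_eq fun a => by
    rw [Localization.AtPrime.IsLiesOverAlgebra.algebraMap_eq, Localization.localRingHom_to_map,
      ← IsScalarTower.algebraMap_apply]
  haveI : IsLocalHom (algebraMap Ai Bp) := by
    rw [Localization.AtPrime.IsLiesOverAlgebra.algebraMap_eq]
    exact Localization.isLocalHom_localRingHom _ p (algebraMap A A') Ideal.LiesOver.over
  let q : Ideal R := P.comap (Algebra.TensorProduct.includeRight : R →ₐ[A] T).toRingHom
  have hq0 : q.comap (algebraMap A R) = ⊥ := by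
    rw [Ideal.comap_comap, show (Algebra.TensorProduct.includeRight : R →ₐ[A] T).toRingHom.comp (algebraMap A R) =
      (algebraMap A' T).comp (algebraMap A A') from RingHom.ext fun a =>
        ((Algebra.TensorProduct.includeRight : R →ₐ[A] T).commutes a).trans
          ((Algebra.TensorProduct.includeLeft : A' →ₐ[A] T).commutes a).symm,
      ← Ideal.comap_comap, hP, Ideal.comap_bot_of_injective _ hinjA']
  haveI : q.IsPrime := Ideal.comap_isPrime _ _
  let K₁ := q.ResidueField
  have hinjK : Function.Injective (algebraMap A K₁) := by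
    rw [IsScalarTower.algebraMap_eq A R K₁, RingHom.injective_iff_ker_eq_bot, ← RingHom.comap_ker,
      Ideal.ker_algebraMap_residueField]
    exact hq0
  letI : Algebra K K₁ := (IsFractionRing.lift hinjK).toAlgebra
  haveI : IsScalarTower A K K₁ := IsScalarTower.of_algebraMap_eq fun a => (IsFractionRing.lift_algebraMap hinjK a).symm
  obtain ⟨hfd, hsp⟩ := separable_finite_of_etale F hF K (IsScalarTower.toAlgHom A R K₁) (residueField_fractions q)
  have hu : ∀ s : (Ideal.span {π}).primeCompl, IsUnit (algebraMap A K s) := fun s =>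
    isUnit_iff_ne_zero.2 ((map_ne_zero_iff _ (IsFractionRing.injective A K)).2 fun h => s.2 (h ▸ Ideal.zero_mem _))
  letI : Algebra Ai K := (IsLocalization.lift (M := (Ideal.span {π}).primeCompl) hu).toAlgebra
  haveI : IsScalarTower A Ai K := IsScalarTower.of_algebraMap_eq fun a =>
    (IsLocalization.lift_eq (M := (Ideal.span {π}).primeCompl) hu a).symm
  haveI : IsFractionRing Ai K :=
    IsFractionRing.isFractionRing_of_isDomain_of_isLocalization (Ideal.span {π}).primeCompl Ai K
  have hgenmap : SGA1.genericResidueMap (algebraMap A R) (Ideal.span {π}) q hq0 =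
      (algebraMap K K₁).comp (algebraMap Ai K) :=
    IsLocalization.ringHom_ext (Ideal.span {π}).primeCompl (RingHom.ext fun a => by
      show SGA1.genericResidueMap (algebraMap A R) _ q hq0 (algebraMap A Ai a) =
        algebraMap K K₁ (algebraMap Ai K (algebraMap A Ai a))
      rw [← IsScalarTower.algebraMap_apply A Ai K, ← IsScalarTower.algebraMap_apply A K K₁,
        IsScalarTower.algebraMap_apply A R K₁, genericResidueMap_algebraMap])
  have hu' : ∀ s : p.primeCompl, IsUnit (algebraMap A' K' s) := fun s =>
    isUnit_iff_ne_zero.2 ((map_ne_zero_iff _ (IsFractionRing.injective A' K')).2 fun h => s.2 (h ▸ p.zero_mem))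
  letI : Algebra Bp K' := (IsLocalization.lift (M := p.primeCompl) hu').toAlgebra
  haveI : IsScalarTower A' Bp K' := IsScalarTower.of_algebraMap_eq fun a =>
    (IsLocalization.lift_eq (M := p.primeCompl) hu' a).symm
  haveI : IsFractionRing Bp K' := IsFractionRing.isFractionRing_of_isDomain_of_isLocalization p.primeCompl Bp K'
  have hinjK' : Function.Injective (algebraMap A K') := by
    rw [IsScalarTower.algebraMap_eq A A' K']; exact (IsFractionRing.injective A' K').comp hinjA'
  letI : Algebra K K' := (IsFractionRing.lift hinjK').toAlgebra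
  haveI : IsScalarTower A K K' := IsScalarTower.of_algebraMap_eq fun a => (IsFractionRing.lift_algebraMap hinjK' a).symm
  letI : Algebra Ai K' := ((algebraMap K K').comp (algebraMap Ai K)).toAlgebra
  haveI : IsScalarTower Ai K K' := IsScalarTower.of_algebraMap_eq' rfl
  haveI : IsScalarTower Ai Bp K' := IsScalarTower.of_algebraMap_eq' (IsLocalization.ringHom_ext
    (Ideal.span {π}).primeCompl (RingHom.ext fun a => by
      show algebraMap K K' (algebraMap Ai K (algebraMap A Ai a)) = algebraMap Bp K' (algebraMap Ai Bp (algebraMap A Ai a))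
      rw [← IsScalarTower.algebraMap_apply A Ai K, ← IsScalarTower.algebraMap_apply A K K',
        ← IsScalarTower.algebraMap_apply A Ai Bp, IsScalarTower.algebraMap_apply A A' Bp,
        ← IsScalarTower.algebraMap_apply A' Bp K', ← IsScalarTower.algebraMap_apply A A' K']))
  have hPA' : Function.Injective (algebraMap A' L) := by
    rw [IsScalarTower.algebraMap_eq A' T L, RingHom.injective_iff_ker_eq_bot, ← RingHom.comap_ker,
      Ideal.ker_algebraMap_residueField]
    exact hP
  letI : Algebra K' L := (IsFractionRing.lift hPA').toAlgebra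
  haveI : IsScalarTower A' K' L := IsScalarTower.of_algebraMap_eq fun a => (IsFractionRing.lift_algebraMap hPA' a).symm
  obtain ⟨ι₁, hι₁⟩ : ∃ ι₁ : K₁ →+* L, ∀ x, ι₁ (algebraMap R K₁ x) = algebraMap T L ((1 : A') ⊗ₜ[A] x) :=
    ⟨Ideal.ResidueField.map q P (Algebra.TensorProduct.includeRight : R →ₐ[A] T).toRingHom rfl,
      fun x => Ideal.ResidueField.map_algebraMap ..⟩
  letI : Algebra K₁ L := ι₁.toAlgebra
  letI : Algebra K L := ((algebraMap K' L).comp (algebraMap K K')).toAlgebra
  haveI : IsScalarTower K K' L := IsScalarTower.of_algebraMap_eq' rfl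
  haveI : IsScalarTower K K₁ L := IsScalarTower.of_algebraMap_eq' (IsLocalization.ringHom_ext (nonZeroDivisors A)
    (RingHom.ext fun a => by
      show algebraMap K' L (algebraMap K K' (algebraMap A K a)) = ι₁ (algebraMap K K₁ (algebraMap A K a))
      rw [← IsScalarTower.algebraMap_apply A K K', ← IsScalarTower.algebraMap_apply A K K₁,
        IsScalarTower.algebraMap_apply A A' K', ← IsScalarTower.algebraMap_apply A' K' L,
        IsScalarTower.algebraMap_apply A R K₁, hι₁, IsScalarTower.algebraMap_apply A' T L]
      exact congrArg _ (((Algebra.TensorProduct.includeLeft : A' →ₐ[A] T).commutes a).trans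
          ((Algebra.TensorProduct.includeRight : R →ₐ[A] T).commutes a).symm)))
  have hgen : Algebra.adjoin K' (Set.range (algebraMap K₁ L)) = ⊤ := by
    refine Algebra.eq_top_iff.2 fun x => ?_
    let S := Algebra.adjoin K' (Set.range (algebraMap K₁ L))
    have hT : ∀ t : A' ⊗[A] R, algebraMap (A' ⊗[A] R) L t ∈ S := by
      intro t
      induction t using TensorProduct.induction_on with
      | zero => rw [map_zero]; exact S.zero_mem
      | add y z hy hz => rw [map_add]; exact S.add_mem hy hz
      | tmul a y =>
        rw [show a ⊗ₜ[A] y = (a ⊗ₜ[A] (1 : R)) * ((1 : A') ⊗ₜ[A] y) by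
          rw [Algebra.TensorProduct.tmul_mul_tmul, mul_one, one_mul], map_mul]
        refine S.mul_mem ?_ (Algebra.subset_adjoin ⟨_, hι₁ y⟩)
        rw [show a ⊗ₜ[A] (1 : R) = algebraMap A' T a from rfl, ← IsScalarTower.algebraMap_apply A' T L,
          IsScalarTower.algebraMap_apply A' K' L]
        exact S.algebraMap_mem _
    have hS : S ≤ integralClosure K' L := Algebra.adjoin_le (by
      rintro _ ⟨y, rfl⟩
      exact (((Algebra.IsIntegral.isIntegral (R := K) y).map (IsScalarTower.toAlgHom K K₁ L)).tower_top))
    obtain ⟨u, v, hv, h⟩ := residueField_fractions P x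
    rw [eq_div_of_mul_eq hv h, div_eq_mul_inv]
    exact S.mul_mem (hT u) (Subalgebra.inv_mem_of_algebraic S (x := ⟨_, hT v⟩)
      ((hS (hT v) : IsIntegral K' (algebraMap T L v))).isAlgebraic)
  have hgen' : SGA1.genericResidueMap (algebraMap A' T) p P hP = (algebraMap K' L).comp (algebraMap Bp K') :=
    IsLocalization.ringHom_ext p.primeCompl (RingHom.ext fun a => by
      show SGA1.genericResidueMap (algebraMap A' T) p P hP (algebraMap A' Bp a) =
        algebraMap K' L (algebraMap Bp K' (algebraMap A' Bp a))
      rw [← IsScalarTower.algebraMap_apply A' Bp K', ← IsScalarTower.algebraMap_apply A' K' L,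
        IsScalarTower.algebraMap_apply A' T L, genericResidueMap_algebraMap])
  rw [hgen']
  refine ⟨WeakUnram.tame_baseChange Ai Bp K K' K₁ L hgen (hgenmap ▸ ht q hq0), fun m x hx hdvd => ?_⟩
  refine WeakUnram.unramified_baseChange_of_dvd Ai Bp K K' K₁ L hgen (hgenmap ▸ ht q hq0) ?_
  intro V hV
  have h1 : ∀ (g : Ai →+* K₁), g = SGA1.genericResidueMap (algebraMap A R) (Ideal.span {π}) q hq0 →
      ∀ (V : ValuationSubring K₁) (hV : EtRam.Dominates Ai g V),
      letI : Algebra Ai V := (RingHom.codRestrict g V hV.1).toAlgebra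
      Ideal.ramificationIdx' (maximalIdeal Ai) (maximalIdeal V) ∣ m := by
    intro g hg V hV
    subst hg
    exact hdvd q hq0 V hV
  refine (h1 _ hgenmap.symm V hV).trans ?_
  refine dvd_ramificationIdx' (fun x y hxy => ?_) irreducible_span (algebraMap A' Bp x) m ?_
  · refine IsFractionRing.injective Ai K ((algebraMap K K').injective ?_)
    show algebraMap Ai K' x = algebraMap Ai K' y
    rw [IsScalarTower.algebraMap_apply Ai Bp K', hxy, ← IsScalarTower.algebraMap_apply]
  · rw [← map_pow, hx, ← IsScalarTower.algebraMap_apply, ← IsScalarTower.algebraMap_apply]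

end Cover

end Groth.Agent.AbhyankarAbs
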