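import Groth.Agent.AbhyankarAbs.Cofinal
import Groth.Agent.RegLocal.UFD
import Groth.Agent.WLocalLib.FiniteContr

/-! Regular connected tame covers of a strictly henselian regular local ring are Kummer. -/

set_option autoImplicit false
universe u

open IsLocalRing TensorProduct

namespace Groth.Agent.AbhyankarAbs

/-- Tameness only depends on the extension up to isomorphism. -/
theorem tame_of_bijective {A L L' : Type u} [CommRing A] [IsLocalRing A] [Field L] [Field L'] (g : A →+* L)
    (ι : L →+* L') (hι : Function.Bijective ι) (h : EtRam.IsTamelyRamified A g) :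
    EtRam.IsTamelyRamified A (ι.comp g) := by
  intro W hW
  letI algW : Algebra A W := (RingHom.codRestrict (ι.comp g) W hW.1).toAlgebra
  intro hlocW
  let V : ValuationSubring L := W.comap ι
  let e : V ≃+* W := RingEquiv.ofBijective (EtRam.inclOfComap W ι)
    ⟨fun a b hab => Subtype.ext (hι.1 (congrArg Subtype.val hab)), fun w => by
      obtain ⟨x, hx⟩ := hι.2 w
      exact ⟨⟨x, show ι x ∈ W from hx ▸ w.2⟩, Subtype.ext hx⟩⟩
  have he : ∀ v : V, v ∈ maximalIdeal V ↔ e v ∈ maximalIdeal W := fun v =>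
    not_congr (MulEquiv.isUnit_map e).symm
  have hV : EtRam.Dominates A g V := ⟨fun a => hW.1 a, fun a ha => (ValuationSubring.valuation_lt_one_iff V ⟨g a, hW.1 a⟩).1
    ((he _).2 ((ValuationSubring.valuation_lt_one_iff W ⟨ι (g a), hW.1 a⟩).2 (hW.2 a ha)))⟩
  letI algV : Algebra A V := (RingHom.codRestrict g V hV.1).toAlgebra
  haveI : IsLocalHom (algebraMap A V) := ⟨fun a ha => hlocW.map_nonunit a (ha.map e.toRingHom)⟩
  let eA : V ≃ₐ[A] W := AlgEquiv.ofRingEquiv (f := e) fun a => rfl
  obtain ⟨hsep, hram⟩ := h V hV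
  have heq : Ideal.ramificationIdx' (maximalIdeal A) (maximalIdeal V) =
      Ideal.ramificationIdx' (maximalIdeal A) (maximalIdeal W) := by
    have hcomp : algebraMap A W = e.toRingHom.comp (algebraMap A V) := rfl
    have hm : (maximalIdeal V).map e.toRingHom = maximalIdeal W := by
      haveI : ((maximalIdeal V).map e.toRingHom).IsMaximal :=
        (Ideal.isMaximal_map_iff_of_bijective _ e.bijective).2 inferInstance
      exact eq_maximalIdeal inferInstance
    show sSup {n | (maximalIdeal A).map (algebraMap A V) ≤ maximalIdeal V ^ n} =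
      sSup {n | (maximalIdeal A).map (algebraMap A W) ≤ maximalIdeal W ^ n}
    congr 1
    ext n
    show (maximalIdeal A).map (algebraMap A V) ≤ maximalIdeal V ^ n ↔ (maximalIdeal A).map (algebraMap A W) ≤ maximalIdeal W ^ n
    rw [hcomp, ← Ideal.map_map, ← hm, ← Ideal.map_pow]
    exact ⟨fun h => Ideal.map_mono h, fun h x hx => by
      obtain ⟨y, hy, hyx⟩ := (Ideal.mem_map_iff_of_surjective e.toRingHom e.surjective).1 (h (Ideal.mem_map_of_mem _ hx))
      exact e.injective hyx ▸ hy⟩
  refine ⟨?_, fun p hp hc => heq ▸ hram p hp hc⟩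
  haveI := hsep
  haveI : IsLocalHom (eA : V →+* W) := ⟨fun a ha => (MulEquiv.isUnit_map e).1 ha⟩
  let κ : ResidueField V ≃ₐ[ResidueField A] ResidueField W :=
    AlgEquiv.ofRingEquiv (f := ResidueField.mapEquiv e) fun x => by
      obtain ⟨x, rfl⟩ := residue_surjective x
      rfl
  exact AlgEquiv.Algebra.isSeparable κ

/-- An injective endomorphism of a finite domain over `A` is surjective. -/
theorem surjective_endo {A C : Type u} [CommRing A] [CommRing C] [IsDomain C] [Algebra A C] [Module.Finite A C]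
    (φ : C →ₐ[A] C) (hφ : Function.Injective φ) : Function.Surjective φ := by
  classical
  intro y
  obtain ⟨p, hp, hy⟩ : IsIntegral A y := Algebra.IsIntegral.isIntegral y
  haveI : Nontrivial A := (algebraMap A C).domain_nontrivial
  let S := (p.map (algebraMap A C)).roots.toFinset
  have hmem : ∀ x, x ∈ S ↔ Polynomial.aeval x p = 0 := fun x => by
    rw [Multiset.mem_toFinset, Polynomial.mem_roots (Polynomial.Monic.ne_zero (hp.map _)), Polynomial.IsRoot.def,
      Polynomial.eval_map, Polynomial.aeval_def]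
  have hmap : Set.MapsTo φ S S := fun x hx => (hmem _).2 (by rw [Polynomial.aeval_algHom_apply, (hmem x).1 hx, map_zero])
  obtain ⟨x, -, hx⟩ := (Finset.finite_toSet S).injOn_iff_bijOn_of_mapsTo hmap |>.1 hφ.injOn |>.surjOn ((hmem y).2 hy)
  exact ⟨x, hx⟩

/-- Roots of units in a strictly henselian local ring. -/
theorem exists_pow_eq_unit {B : Type u} [CommRing B] [HenselianLocalRing B] [IsSepClosed (ResidueField B)] {e : ℕ}
    (he : (e : ResidueField B) ≠ 0) (u : Bˣ) : ∃ w : Bˣ, w ^ e = u := by
  open Polynomial in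
  have he0 : e ≠ 0 := fun h => he (by simp [h])
  haveI : NeZero (e : ResidueField B) := ⟨he⟩
  have hsep : (X ^ e - C (residue B u)).Separable :=
    separable_X_pow_sub_C _ he ((residue_ne_zero_iff_isUnit _).2 u.isUnit)
  obtain ⟨c, hc⟩ := IsSepClosed.exists_root (X ^ e - C (residue B u))
    (by rw [degree_X_pow_sub_C (Nat.pos_of_ne_zero he0)]; exact_mod_cast he0) hsep
  simp only [IsRoot.def, eval_sub, eval_pow, eval_X, eval_C, sub_eq_zero] at hc
  obtain ⟨c, rfl⟩ := residue_surjective c
  have hc0 : IsUnit c := by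
    rw [← residue_ne_zero_iff_isUnit]
    intro h
    rw [h, zero_pow he0] at hc
    exact (residue_ne_zero_iff_isUnit _).mpr u.isUnit hc.symm
  obtain ⟨a, ha, -⟩ := HenselianLocalRing.is_henselian (X ^ e - C (u : B)) (monic_X_pow_sub_C _ he0) c
    (by rw [← residue_eq_zero_iff]; simp [hc])
    (by
      simp only [derivative_sub, derivative_X_pow, derivative_C, sub_zero, eval_mul, eval_C, eval_pow, eval_X]
      refine IsUnit.mul ?_ (hc0.pow _)
      rwa [← residue_ne_zero_iff_isUnit, map_natCast])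
  simp only [IsRoot.def, eval_sub, eval_pow, eval_X, eval_C, sub_eq_zero] at ha
  have : IsUnit a := by rw [← isUnit_pow_iff he0, ha]; exact u.isUnit
  exact ⟨this.unit, Units.ext (by simpa using ha)⟩

/-- A point of the cover with values in `A'_F` is integral. -/
theorem exists_integral_point {A B A' R : Type u} [CommRing A] [CommRing B] [CommRing A'] [CommRing R] [Algebra A B]
    [Module.Finite A B] [Algebra A A'] [IsDomain A'] [IsIntegrallyClosed A'] [Algebra A R] (j : B →ₐ[A] R) {F : A}
    (hF : algebraMap A A' F ≠ 0) (χ : R →ₐ[A] Localization.Away (algebraMap A A' F)) :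
    ∃ ψ : B →ₐ[A] A', ∀ b, algebraMap A' (Localization.Away (algebraMap A A' F)) (ψ b) = χ (j b) := by
  let F' := algebraMap A A' F
  let L := Localization.Away F'
  have hle : Submonoid.powers F' ≤ nonZeroDivisors A' := powers_le_nonZeroDivisors_of_noZeroDivisors hF
  haveI : IsDomain L := IsLocalization.isDomain_of_le_nonZeroDivisors L hle
  let K' := FractionRing A'
  have hu : ∀ s : Submonoid.powers F', IsUnit (algebraMap A' K' s) := fun s =>
    isUnit_iff_ne_zero.2 ((map_ne_zero_iff _ (IsFractionRing.injective A' K')).2 (nonZeroDivisors.ne_zero (hle s.2)))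
  letI : Algebra L K' := (IsLocalization.lift (M := Submonoid.powers F') hu).toAlgebra
  haveI : IsScalarTower A' L K' := IsScalarTower.of_algebraMap_eq fun a =>
    (IsLocalization.lift_eq (M := Submonoid.powers F') hu a).symm
  haveI : IsFractionRing L K' := IsFractionRing.isFractionRing_of_isDomain_of_isLocalization (Submonoid.powers F') L K'
  have hex : ∀ b, ∃ a : A', algebraMap A' L a = χ (j b) := fun b => by
    have h1 : IsIntegral A' (χ (j b)) := ((Algebra.IsIntegral.isIntegral (R := A) b).map (χ.comp j)).tower_top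
    obtain ⟨a, ha⟩ := IsIntegrallyClosed.isIntegral_iff.1 (h1.map (IsScalarTower.toAlgHom A' L K'))
    exact ⟨a, IsFractionRing.injective L K' (by rw [← IsScalarTower.algebraMap_apply]; exact ha)⟩
  choose ψ hψ using hex
  have hinj := IsLocalization.injective L hle
  exact ⟨{
    toFun := ψ
    map_one' := hinj (by rw [hψ, map_one, map_one, map_one])
    map_mul' := fun x y => hinj (by simp only [map_mul, hψ])
    map_zero' := hinj (by rw [hψ, map_zero, map_zero, map_zero])
    map_add' := fun x y => hinj (by simp only [map_add, hψ])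
    commutes' := fun a => hinj (by rw [hψ, AlgHom.commutes, AlgHom.commutes, ← IsScalarTower.algebraMap_apply]) }, hψ⟩

/-- The exponent of `π` in a factor of a prime power. -/
theorem dvd_exponent {C : Type u} [CommRing C] [IsDomain C] {T x w : C} {n e : ℕ} (hT : Prime T) (hw : IsUnit w)
    (hx : x ≠ 0) (h : T ^ n = w * x ^ e) : e ∣ n := by
  classical
  obtain ⟨u, hu⟩ : ∃ u : C, u * w = 1 := ⟨↑hw.unit⁻¹, hw.val_inv_mul⟩
  rcases Nat.eq_zero_or_pos e with rfl | he
  · rw [pow_zero, mul_one] at h
    rcases Nat.eq_zero_or_pos n with rfl | hn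
    · exact dvd_rfl
    · exact absurd ((isUnit_pow_iff hn.ne').1 (h ▸ hw)) hT.not_unit
  have hxT : x ^ e = u * T ^ n := by rw [h, ← mul_assoc, hu, one_mul]
  obtain ⟨i, j, -, -, hxi⟩ : ∃ i j, i ≤ n ∧ j = n ∧ Associated x (T ^ i) := by
    have hdvd : x ∣ T ^ n := ⟨w * x ^ (e - 1), by rw [h, mul_left_comm, ← pow_succ', Nat.sub_add_cancel he]⟩
    obtain ⟨i, hi, hxi⟩ := (dvd_prime_pow hT n).1 hdvd
    exact ⟨i, n, hi, rfl, hxi⟩
  have h2 : Associated (T ^ (i * e)) (T ^ n) := by
    rw [pow_mul]
    exact ((hxi.symm.pow_pow).trans (Associated.refl _)).trans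
      ⟨hw.unit, by rw [mul_comm, IsUnit.unit_spec, h]⟩
  refine ⟨i, ?_⟩
  rw [mul_comm e i]
  exact (eq_of_associated_pow hT h2).symm
where
  eq_of_associated_pow {C : Type u} [CommRing C] [IsDomain C] {T : C} (hT : Prime T) {a b : ℕ}
      (h : Associated (T ^ a) (T ^ b)) : a = b :=
    le_antisymm ((pow_dvd_pow_iff hT.ne_zero hT.not_unit).1 h.dvd) ((pow_dvd_pow_iff hT.ne_zero hT.not_unit).1 h.dvd')

/-- `fᵢ` is a unit times a power of a prime of `B`, of exponent dividing `n i`. -/
theorem exists_prime_factor {A : Type u} [CommRing A] [IsDomain A] [IsNoetherianRing A] [IsIntegrallyClosed A] {π : A}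
    (hπ : π ≠ 0) [(Ideal.span {π}).IsPrime] (hπu : ¬ IsUnit π)
    {B : Type u} [CommRing B] [IsDomain B] [UniqueFactorizationMonoid B] [Algebra A B] [Module.Finite A B]
    (hinjB : Function.Injective (algebraMap A B)) [IsIntegrallyClosed B]
    {A'' : Type u} [CommRing A''] [IsDomain A''] [IsNoetherianRing A''] [IsIntegrallyClosed A''] [Algebra A A'']
    [Module.Finite A A''] (hinj : Function.Injective (algebraMap A A'')) (ψ : B →ₐ[A] A'') (x : A'') (n : ℕ)
    (hn : 1 ≤ n) (hx : x ^ n = algebraMap A A'' π) [(Ideal.span {x}).IsPrime] :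
    ∃ (ϖ : B) (e : ℕ) (w : Bˣ), (Ideal.span {ϖ}).IsPrime ∧ 1 ≤ e ∧ e ∣ n ∧ algebraMap A B π = w * ϖ ^ e := by
  classical
  haveI : FaithfulSMul A B := (faithfulSMul_iff_algebraMap_injective A B).2 hinjB
  haveI : FaithfulSMul A A'' := (faithfulSMul_iff_algebraMap_injective A A'').2 hinj
  haveI : IsNoetherianRing B := IsNoetherianRing.of_finite A B
  have hψinj : Function.Injective ψ := injective_of_finite ψ hinj
  have hπB : algebraMap A B π ≠ 0 := (map_ne_zero_iff _ hinjB).2 hπ
  have hπBu : ¬ IsUnit (algebraMap A B π) := fun h => hπu (isUnit_of_map_unit (algebraMap A B) π h)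
  have hx0 : x ≠ 0 := fun h => (map_ne_zero_iff _ hinj).2 hπ (by rw [← hx, h, zero_pow (by omega)])
  obtain ⟨ϖ, hϖi, hϖd⟩ := WfDvdMonoid.exists_irreducible_factor hπBu hπB
  -- every prime factor generates the same ideal
  have key : ∀ q : B, Irreducible q → q ∣ algebraMap A B π → Ideal.span {q} = (Ideal.span {x}).comap ψ.toRingHom := by
    intro q hq hqd
    have hqp := UniqueFactorizationMonoid.irreducible_iff_prime.1 hq
    haveI : (Ideal.span {q}).IsPrime := (Ideal.span_singleton_prime hqp.ne_zero).2 hqp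
    letI : Algebra B A'' := ψ.toRingHom.toAlgebra
    haveI : IsScalarTower A B A'' := IsScalarTower.of_algebraMap_eq fun a => (ψ.commutes a).symm
    haveI : Algebra.IsIntegral B A'' := Algebra.IsIntegral.tower_top A
    haveI : FaithfulSMul B A'' := (faithfulSMul_iff_algebraMap_injective B A'').2 hψinj
    obtain ⟨⟨Q, hQp, hQl⟩⟩ := Ideal.nonempty_primesOver (S := A'') (Ideal.span {q})
    haveI := hQp
    haveI := hQl
    have hπq : π ∈ (Ideal.span {q}).comap (algebraMap A B) := Ideal.mem_span_singleton.2 hqd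
    have hq1 : (Ideal.span {q}).height ≤ 1 := Ideal.height_le_one_of_isPrincipal_of_mem_minimalPrimes (Ideal.span {q}) (Ideal.span {q})
      (by rw [Ideal.minimalPrimes_eq_subsingleton_self]; rfl)
    have hQA : Q.under A = (Ideal.span {q}).under A := by
      rw [← Ideal.under_under (B := B) Q, ← Ideal.over_def Q (Ideal.span {q})]
    have hQh : Q.height ≤ 1 := by
      rw [height_eq_under (A := A) Q, hQA, ← height_eq_under (A := A) (Ideal.span {q})]; exact hq1
    have hxQ : x ∈ Q := by
      refine hQp.mem_of_pow_mem n ?_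
      rw [hx]
      exact Ideal.mem_comap.1 (hQA.symm.le hπq)
    have hQx : Q = Ideal.span {x} := by
      refine le_antisymm ?_ ((Ideal.span_singleton_le_iff_mem _).2 hxQ)
      by_contra hne
      have hlt : Ideal.span {x} < Q := lt_of_le_of_ne ((Ideal.span_singleton_le_iff_mem _).2 hxQ) fun h => hne h.ge
      have h1 := (Ideal.height_strict_mono_of_isPrime hlt).trans_le hQh
      rw [Order.lt_one_iff, Ideal.height_eq_zero_iff_eq_bot, Ideal.span_singleton_eq_bot] at h1
      exact hx0 h1
    rw [Ideal.over_def Q (Ideal.span {q}), hQx]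
    rfl
  have hϖp := UniqueFactorizationMonoid.irreducible_iff_prime.1 hϖi
  obtain ⟨e, c, hc, hfac⟩ := WfDvdMonoid.max_power_factor hπB hϖi
  have hcu : IsUnit c := by
    by_contra hcu
    have hc0 : c ≠ 0 := fun h => hπB (by rw [hfac, h, mul_zero])
    obtain ⟨q, hqi, hqc⟩ := WfDvdMonoid.exists_irreducible_factor hcu hc0
    have h1 : Ideal.span {ϖ} = Ideal.span {q} :=
      (key ϖ hϖi hϖd).trans (key q hqi (hqc.trans ⟨ϖ ^ e, by rw [hfac, mul_comm]⟩)).symm
    exact hc ((Ideal.span_singleton_le_span_singleton.1 h1.ge).trans hqc)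
  have he : 1 ≤ e := by
    rcases Nat.eq_zero_or_pos e with rfl | he
    · exact absurd (by rw [hfac, pow_zero, one_mul]; exact hcu) hπBu
    · exact he
  refine ⟨ϖ, e, hcu.unit, (Ideal.span_singleton_prime hϖp.ne_zero).2 hϖp, he, ?_, by rw [hfac, IsUnit.unit_spec, mul_comm]⟩
  refine dvd_exponent ((Ideal.span_singleton_prime hx0).1 inferInstance) (hcu.map ψ) ((map_ne_zero_iff _ hψinj).2 hϖp.ne_zero) ?_
  rw [← map_pow, ← map_mul, hx, ← ψ.commutes π, hfac, mul_comm]

theorem tame_tensor {A : Type u} [CommRing A] [IsDomain A] {r : ℕ} (f : Fin r → A) [∀ i, (Ideal.span {f i}).IsPrime]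
    (hne : ∀ i, f i ≠ 0) {B : Type u} [CommRing B] [Algebra A B] (htame : SGA1.IsTameAlong f (algebraMap A B)) :
    SGA1.IsTameAlong f (algebraMap A (Localization.Away (∏ i, f i) ⊗[A] B)) := by
  intro i q' _ hq'
  let AF := Localization.Away (∏ i, f i)
  let jr : B →ₐ[A] AF ⊗[A] B := Algebra.TensorProduct.includeRight
  let q : Ideal B := q'.comap jr.toRingHom
  haveI : q.IsPrime := Ideal.comap_isPrime _ _
  have hq : q.comap (algebraMap A B) = ⊥ := by
    rw [Ideal.comap_comap, show jr.toRingHom.comp (algebraMap A B) = algebraMap A (AF ⊗[A] B) from jr.comp_algebraMap]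
    exact hq'
  let ι : q.ResidueField →+* q'.ResidueField := Ideal.ResidueField.map q q' jr.toRingHom rfl
  have hι : ∀ b, ι (algebraMap B q.ResidueField b) = algebraMap _ q'.ResidueField ((1 : AF) ⊗ₜ[A] b) := fun b =>
    Ideal.ResidueField.map_algebraMap ..
  have hA : ∀ a, ι (algebraMap A q.ResidueField a) = algebraMap A q'.ResidueField a := fun a => by
    rw [IsScalarTower.algebraMap_apply A B q.ResidueField, hι, IsScalarTower.algebraMap_apply A (AF ⊗[A] B) q'.ResidueField]
    exact congrArg _ (jr.commutes a)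
  have hgen : SGA1.genericResidueMap (algebraMap A (AF ⊗[A] B)) (Ideal.span {f i}) q' hq' =
      ι.comp (SGA1.genericResidueMap (algebraMap A B) (Ideal.span {f i}) q hq) :=
    IsLocalization.ringHom_ext (Ideal.span {f i}).primeCompl (RingHom.ext fun a => by
      show SGA1.genericResidueMap (algebraMap A (AF ⊗[A] B)) _ q' hq' (algebraMap A _ a) =
        ι (SGA1.genericResidueMap (algebraMap A B) _ q hq (algebraMap A _ a))
      rw [genericResidueMap_algebraMap, genericResidueMap_algebraMap, ← IsScalarTower.algebraMap_apply,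
        ← IsScalarTower.algebraMap_apply, hA])
  rw [hgen]
  refine tame_of_bijective _ ι ⟨ι.injective, fun z => ?_⟩ (htame i q hq)
  have hT : ∀ t : AF ⊗[A] B, algebraMap _ q'.ResidueField t ∈ ι.fieldRange := by
    intro t
    induction t using TensorProduct.induction_on with
    | zero => rw [map_zero]; exact zero_mem _
    | add x y hx hy => rw [map_add]; exact add_mem hx hy
    | tmul c b =>
      rw [show c ⊗ₜ[A] b = (c ⊗ₜ[A] (1 : B)) * ((1 : AF) ⊗ₜ[A] b) by
        rw [Algebra.TensorProduct.tmul_mul_tmul, mul_one, one_mul], map_mul]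
      refine mul_mem ?_ ⟨_, hι b⟩
      obtain ⟨a, ⟨s, hs⟩, rfl⟩ := IsLocalization.exists_mk'_eq (Submonoid.powers (∏ i, f i)) c
      have hs0 : algebraMap A q'.ResidueField s ≠ 0 := by
        rw [IsScalarTower.algebraMap_apply A (AF ⊗[A] B) q'.ResidueField, Ne, ← RingHom.mem_ker,
          Ideal.ker_algebraMap_residueField, ← Ideal.mem_comap, hq', Ideal.mem_bot]
        obtain ⟨k, rfl⟩ := hs
        exact pow_ne_zero _ (Finset.prod_ne_zero_iff.2 fun i _ => hne i)
      have h1 : algebraMap _ q'.ResidueField (IsLocalization.mk' (M := Submonoid.powers (∏ i, f i)) AF a ⟨s, hs⟩ ⊗ₜ[A] (1 : B)) *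
          algebraMap A q'.ResidueField s = algebraMap A q'.ResidueField a := by
        rw [IsScalarTower.algebraMap_apply A (AF ⊗[A] B) q'.ResidueField, IsScalarTower.algebraMap_apply A (AF ⊗[A] B) q'.ResidueField,
          ← map_mul, Algebra.TensorProduct.algebraMap_apply, Algebra.TensorProduct.algebraMap_apply,
          Algebra.TensorProduct.tmul_mul_tmul, mul_one, IsLocalization.mk'_spec]
      rw [eq_div_of_mul_eq hs0 h1]
      exact div_mem ⟨_, hA a⟩ ⟨_, hA s⟩
  obtain ⟨u, v, hv, h⟩ := residueField_fractions q' z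
  rw [eq_div_of_mul_eq hv h]
  exact div_mem (hT u) (hT v)

theorem isDomain_tensor {A B : Type u} [CommRing A] [IsDomain A] [CommRing B] [IsDomain B] [Algebra A B] {F : A}
    (hinjB : Function.Injective (algebraMap A B)) (hF : F ≠ 0) : IsDomain (Localization.Away F ⊗[A] B) := by
  letI : Algebra B (Localization.Away F ⊗[A] B) := Algebra.TensorProduct.rightAlgebra
  haveI : IsLocalization (Algebra.algebraMapSubmonoid B (Submonoid.powers F)) (Localization.Away F ⊗[A] B) :=
    inferInstance
  exact IsLocalization.isDomain_of_le_nonZeroDivisors (Localization.Away F ⊗[A] B)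
    (M := Algebra.algebraMapSubmonoid B (Submonoid.powers F)) (by
    rintro _ ⟨y, hy, rfl⟩
    exact mem_nonZeroDivisors_of_ne_zero ((map_ne_zero_iff _ hinjB).2
      (nonZeroDivisors.ne_zero (powers_le_nonZeroDivisors_of_noZeroDivisors hF hy))))

theorem exists_residue_hom {A R L : Type u} [CommRing A] [CommRing R] [Field L] [Algebra A R] [Algebra A L]
    (g : R →ₐ[A] L) (P : Ideal R) [P.IsPrime] (hP : RingHom.ker g.toRingHom = P) : Nonempty (P.ResidueField →ₐ[A] L) := by
  let lq : R ⧸ P →+* L := Ideal.Quotient.lift P g.toRingHom fun x hx => (hP ▸ hx : x ∈ RingHom.ker g.toRingHom)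
  have hlq : Function.Injective lq := RingHom.lift_injective_of_ker_le_ideal _ _ hP.le
  refine ⟨{ IsFractionRing.lift hlq with commutes' := fun a => ?_ }⟩
  show IsFractionRing.lift hlq (algebraMap A P.ResidueField a) = _
  rw [IsScalarTower.algebraMap_apply A (R ⧸ P) P.ResidueField, IsFractionRing.lift_algebraMap]
  exact g.commutes a

/-- The exponents of the prime factors clear all ramification. -/
theorem dvdAt_of_prime_factor {A : Type u} [CommRing A] [IsDomain A] [IsNoetherianRing A] [IsIntegrallyClosed A] {r : ℕ}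
    (f : Fin r → A) [∀ i, (Ideal.span {f i}).IsPrime] (hne : ∀ i, f i ≠ 0)
    {B : Type u} [CommRing B] [IsDomain B] [IsIntegrallyClosed B] [Algebra A B] [Module.Finite A B]
    (hinjB : Function.Injective (algebraMap A B))
    [Algebra.Etale (Localization.Away (∏ i, f i)) (Localization.Away (∏ i, f i) ⊗[A] B)]
    (i : Fin r) (e : ℕ) (he : 1 ≤ e) (s : B) (hs : s ^ e = algebraMap A B (f i)) [(Ideal.span {s}).IsPrime] :
    DvdAt (algebraMap A (Localization.Away (∏ i, f i) ⊗[A] B)) (Ideal.span {f i}) e := by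
  intro q _ hq V hV
  haveI : FaithfulSMul A B := (faithfulSMul_iff_algebraMap_injective A B).2 hinjB
  haveI : IsNoetherianRing B := IsNoetherianRing.of_finite A B
  let F := ∏ i, f i
  have hF : F ≠ 0 := Finset.prod_ne_zero_iff.2 fun i _ => hne i
  let AF := Localization.Away F
  haveI : IsDomain AF :=
    IsLocalization.isDomain_of_le_nonZeroDivisors AF (powers_le_nonZeroDivisors_of_noZeroDivisors hF)
  let L := FractionRing B
  have hAL : Function.Injective (algebraMap A L) := by
    rw [IsScalarTower.algebraMap_eq A B L]; exact (IsFractionRing.injective B L).comp hinjB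
  have hu : ∀ y : Submonoid.powers F, IsUnit ((Algebra.ofId A L) (y : A)) := fun y =>
    isUnit_iff_ne_zero.2 ((map_ne_zero_iff _ hAL).2
      (nonZeroDivisors.ne_zero (powers_le_nonZeroDivisors_of_noZeroDivisors hF y.2)))
  let l : AF ⊗[A] B →ₐ[A] L := Algebra.TensorProduct.lift
    (IsLocalization.liftAlgHom (M := Submonoid.powers F) (f := Algebra.ofId A L) hu) (IsScalarTower.toAlgHom A B L)
    fun _ _ => Commute.all _ _
  haveI : Module.Finite AF (AF ⊗[A] B) := inferInstance
  haveI : Algebra.IsIntegral AF (AF ⊗[A] B) := Algebra.IsIntegral.of_finite AF _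
  haveI : IsDomain (AF ⊗[A] B) := isDomain_tensor hinjB hF
  have hbot : ∀ (P : Ideal (AF ⊗[A] B)) [P.IsPrime], P.comap (algebraMap A (AF ⊗[A] B)) = ⊥ → P = ⊥ := by
    intro P _ hP
    refine Ideal.eq_bot_of_comap_eq_bot (R := AF) (eq_bot_iff.2 fun z hz => ?_)
    obtain ⟨a, y, rfl⟩ := IsLocalization.exists_mk'_eq (Submonoid.powers F) z
    have h1 : algebraMap A (AF ⊗[A] B) a ∈ P := by
      rw [IsScalarTower.algebraMap_apply A AF (AF ⊗[A] B), ← IsLocalization.mk'_spec AF a y, map_mul]
      exact P.mul_mem_right _ hz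
    have h2 : a = 0 := by rw [← Ideal.mem_bot, ← hP]; exact h1
    rw [h2, IsLocalization.mk'_zero]; exact Ideal.zero_mem _
  have hq0 := hbot q hq
  subst hq0
  have hl : RingHom.ker l.toRingHom = ⊥ := by
    haveI : (RingHom.ker l.toRingHom).IsPrime := RingHom.ker_isPrime _
    refine hbot _ (eq_bot_iff.2 fun a ha => ?_)
    have h1 : algebraMap A L a = 0 := (l.commutes a).symm.trans ha
    exact Ideal.mem_bot.2 ((map_eq_zero_iff _ hAL).1 h1)
  obtain ⟨ι₁⟩ := exists_residue_hom l (⊥ : Ideal (AF ⊗[A] B)) hl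
  exact dvd_of_embedding (f i) (hne i) _ hq s e he hs ι₁ V (isDVR_valuation f hne _ hq i V hV) hV

theorem exists_hom_kummer {A : Type u} [CommRing A] {r : ℕ} (f : Fin r → A) (n : Fin r → ℕ) {B : Type u} [CommRing B]
    [Algebra A B] (s : Fin r → B) (hs : ∀ i, s i ^ n i = algebraMap A B (f i)) :
    Nonempty (SGA1.kummerAlg A f n →ₐ[A] B) :=
  ⟨Ideal.Quotient.liftₐ _ (MvPolynomial.aeval s) fun z hz => by
    induction hz using Submodule.span_induction with
    | mem y hy => obtain ⟨i, rfl⟩ := hy; simp [hs]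
    | zero => simp
    | add y z _ _ hy hz => rw [map_add, hy, hz, add_zero]
    | smul c y _ hy => rw [smul_eq_mul, map_mul, hy, mul_zero]⟩

theorem classify (A : Type u) [CommRing A] [IsRegularLocalRing A] [IsDomain A] [HenselianLocalRing A]
    [IsSepClosed (ResidueField A)] (r : ℕ) (f : Fin r → A) (hm : ∀ i, f i ∈ maximalIdeal A)
    (hf : LinearIndependent (ResidueField A) (fun i => (maximalIdeal A).toCotangent ⟨f i, hm i⟩))
    [∀ i, (Ideal.span {f i}).IsPrime]
    (B : Type u) [CommRing B] [IsDomain B] [Algebra A B] [Module.Finite A B] [Module.Free A B]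
    (hreg : ∀ (q : Ideal B) [q.IsPrime], IsRegularLocalRing (Localization.AtPrime q))
    [Algebra.Etale (Localization.Away (∏ i, f i)) (Localization.Away (∏ i, f i) ⊗[A] B)]
    (htame : SGA1.IsTameAlong f (algebraMap A B)) :
    ∃ n : Fin r → ℕ, (∀ i, 1 ≤ n i) ∧ (∀ i, IsUnit ((n i : ℕ) : ResidueField A)) ∧
      Nonempty (B ≃ₐ[A] SGA1.kummerAlg A f n) := by
  classical
  have hne : ∀ i, f i ≠ 0 := fun i h0 => hf.ne_zero i (by
    show (maximalIdeal A).toCotangent ⟨f i, hm i⟩ = 0
    rw [show (⟨f i, hm i⟩ : maximalIdeal A) = 0 from Subtype.ext h0, map_zero])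
  haveI : IsIntegrallyClosed A := (PurityLib.isIntegrallyClosed_of_regular A).2
  haveI : Nontrivial B := inferInstance
  have hinjB : Function.Injective (algebraMap A B) := FaithfulSMul.algebraMap_injective A B
  haveI : IsLocalRing B := WLocalLib.isLocalRing_of_isIntegral (A := A) B
  haveI : HenselianLocalRing B := WLocalLib.henselianLocalRing_of_finite A B
  haveI : IsRegularLocalRing B := by
    haveI := hreg (maximalIdeal B)
    exact IsRegularLocalRing.of_ringEquiv (IsLocalization.atUnits B (maximalIdeal B).primeCompl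
      (S := Localization.AtPrime (maximalIdeal B)) (fun x hx => not_not.1 hx)).symm.toRingEquiv
  haveI : IsLocalHom (algebraMap A B) := inferInstance
  haveI : IsSepClosed (ResidueField B) := by
    haveI : Module.Finite (ResidueField A) (ResidueField B) := inferInstance
    haveI : Algebra.IsAlgebraic (ResidueField A) (ResidueField B) := Algebra.IsAlgebraic.of_finite _ _
    exact WLocalLib.isSepClosed_of_isAlgebraic (ResidueField A) _
  haveI : UniqueFactorizationMonoid B := RegLocal.ufd B
  haveI : IsIntegrallyClosed B := (PurityLib.isIntegrallyClosed_of_regular B).2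
  let F := ∏ i, f i
  have hF : F ≠ 0 := Finset.prod_ne_zero_iff.2 fun i _ => hne i
  let R := Localization.Away F ⊗[A] B
  haveI : IsDomain (Localization.Away F ⊗[A] B) := isDomain_tensor hinjB hF
  haveI : ConnectedSpace (PrimeSpectrum (Localization.Away F ⊗[A] B)) := inferInstance
  have htameR := tame_tensor f hne htame
  obtain ⟨n, hn, hnu, χ, -⟩ := exists_point A r f hm hf (Localization.Away F ⊗[A] B) htameR
  haveI hreg'' : IsRegularLocalRing (SGA1.kummerAlg A f n) := KummerRegLib.isRegularLocalRing f n hm hf hn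
  obtain ⟨hd'', hi''⟩ := PurityLib.isIntegrallyClosed_of_regular (SGA1.kummerAlg A f n)
  haveI := hd''
  haveI := hi''
  haveI : Module.Finite A (SGA1.kummerAlg A f n) := KummerRegLib.module_finite f n hn
  have hinj'' := KummerRegLib.algebraMap_injective f n hn
  obtain ⟨ψ, -⟩ := exists_integral_point (A' := SGA1.kummerAlg A f n) (Algebra.TensorProduct.includeRight : B →ₐ[A] _)
    ((map_ne_zero_iff _ hinj'').2 hF) χ
  have hfac : ∀ i, ∃ (s : B) (e : ℕ), (Ideal.span {s}).IsPrime ∧ 1 ≤ e ∧ e ∣ n i ∧ s ^ e = algebraMap A B (f i) := by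
    intro i
    haveI := isPrime_span_T f n hn hm hf i
    obtain ⟨ϖ, e, w, hp, he, hdvd, hf'⟩ := exists_prime_factor (hne i) (fun h => (hm i) h) hinjB hinj'' ψ
      (KummerRegLib.T f n i) (n i) (hn i) (KummerRegLib.T_pow f n i)
    have he0 : ((e : ℕ) : ResidueField B) ≠ 0 := by
      obtain ⟨c, hc⟩ := hdvd
      intro h0
      refine ((hnu i).map (algebraMap (ResidueField A) (ResidueField B))).ne_zero ?_
      rw [map_natCast, hc, Nat.cast_mul, h0, zero_mul]
    obtain ⟨w₀, hw₀⟩ := exists_pow_eq_unit he0 w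
    refine ⟨w₀ * ϖ, e, ?_, he, hdvd, by rw [mul_pow, ← Units.val_pow_eq_pow_val, hw₀, ← hf']⟩
    rw [Ideal.span_singleton_mul_left_unit w₀.isUnit]
    exact hp
  choose s e hsp he hedvd hse using hfac
  have heu : ∀ i, IsUnit ((e i : ℕ) : ResidueField A) := fun i => isUnit_iff_ne_zero.2 fun h0 => by
    obtain ⟨c, hc⟩ := hedvd i
    exact (hnu i).ne_zero (by rw [hc, Nat.cast_mul, h0, zero_mul])
  refine ⟨e, he, heu, ?_⟩
  obtain ⟨B₀, _, _, hB₀, hB₀f, σ, hσ⟩ := etale_extension A r f hm hf (Localization.Away F ⊗[A] B) htameR e he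
    (fun i => by haveI := hsp i; exact dvdAt_of_prime_factor f hne hinjB i (e i) (he i) (s i) (hse i))
  haveI := hB₀
  haveI := hB₀f
  haveI hreg₀ : IsRegularLocalRing (SGA1.kummerAlg A f e) := KummerRegLib.isRegularLocalRing f e hm hf he
  obtain ⟨hd₀, hi₀⟩ := PurityLib.isIntegrallyClosed_of_regular (SGA1.kummerAlg A f e)
  haveI := hd₀
  haveI := hi₀
  haveI : Module.Finite A (SGA1.kummerAlg A f e) := KummerRegLib.module_finite f e he
  haveI : IsSepClosed (ResidueField (SGA1.kummerAlg A f e)) := isSepClosed_kummer f e he hm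
  have hinj₀ := KummerRegLib.algebraMap_injective f e he
  obtain ⟨χ₀, -⟩ := exists_point_aux f hne (Localization.Away F ⊗[A] B) (SGA1.kummerAlg A f e) hinj₀ B₀ σ hσ
  obtain ⟨ψ₀, -⟩ := exists_integral_point (A' := SGA1.kummerAlg A f e) (Algebra.TensorProduct.includeRight : B →ₐ[A] _)
    ((map_ne_zero_iff _ hinj₀).2 hF) χ₀
  obtain ⟨θ⟩ := exists_hom_kummer f e s hse
  have hψ₀ : Function.Injective ψ₀ := injective_of_finite ψ₀ hinj₀
  have hθ : Function.Injective θ := injective_of_finite θ hinjB
  have hsurj := surjective_endo (ψ₀.comp θ) (hψ₀.comp hθ)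
  exact ⟨AlgEquiv.ofBijective ψ₀ ⟨hψ₀, fun y => let ⟨x, hx⟩ := hsurj y; ⟨θ x, hx⟩⟩⟩

end Groth.Agent.AbhyankarAbs
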