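import Groth.Agent.AbhyankarAbs.Descent

/-! Existence of exponents invertible in the residue field. -/

set_option autoImplicit false
universe u

namespace Groth.Agent.AbhyankarAbs
open IsLocalRing TensorProduct

theorem exists_split {k : Type u} [Field k] (m : ℕ) (hm : 0 < m) :
    (m : k) ≠ 0 ∨ ∃ p a m' : ℕ, p.Prime ∧ (p : k) = 0 ∧ m = p ^ a * m' ∧ 1 ≤ m' ∧ (m' : k) ≠ 0 := by
  obtain ⟨p, hp⟩ := CharP.exists k
  rcases Nat.eq_zero_or_pos p with rfl | hpos
  · haveI := CharP.charP_to_charZero k
    exact Or.inl (Nat.cast_ne_zero.2 (by omega))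
  · have hpp : p.Prime := (CharP.char_is_prime_or_zero k p).resolve_right (by omega)
    refine Or.inr ⟨p, m.factorization p, m / p ^ m.factorization p, hpp, CharP.cast_eq_zero k p,
      (Nat.ordProj_mul_ordCompl_eq_self m p).symm, Nat.ordCompl_pos p (by omega), ?_⟩
    rw [Ne, CharP.cast_eq_zero_iff k p]
    exact Nat.not_dvd_ordCompl hpp (by omega)

/-- Invertible exponents, over a strictly henselian base. -/
theorem exists_exponents_strict (A : Type u) [CommRing A] [IsRegularLocalRing A] [IsDomain A] [HenselianLocalRing A]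
    [IsSepClosed (ResidueField A)] (r : ℕ) (f : Fin r → A) (hm : ∀ i, f i ∈ maximalIdeal A)
    (hf : LinearIndependent (ResidueField A) (fun i => (maximalIdeal A).toCotangent ⟨f i, hm i⟩))
    [∀ i, (Ideal.span {f i}).IsPrime]
    {R : Type u} [CommRing R] [Algebra A R] [Algebra (Localization.Away (∏ i, f i)) R]
    [IsScalarTower A (Localization.Away (∏ i, f i)) R]
    [Algebra.Etale (Localization.Away (∏ i, f i)) R] [Module.Finite (Localization.Away (∏ i, f i)) R]
    (htame : SGA1.IsTameAlong f (algebraMap A R)) :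
    ∃ n : Fin r → ℕ, (∀ i, 1 ≤ n i) ∧ (∀ i, IsUnit ((n i : ℕ) : ResidueField A)) ∧
      ∀ i, DvdAt (algebraMap A R) (Ideal.span {f i}) (n i) := by
  classical
  have hne : ∀ i, f i ≠ 0 := fun i h0 => hf.ne_zero i (by
    show (maximalIdeal A).toCotangent ⟨f i, hm i⟩ = 0
    rw [show (⟨f i, hm i⟩ : maximalIdeal A) = 0 from Subtype.ext h0, map_zero])
  haveI := fun i => isDVR_span (hne i)
  have hF : (∏ i, f i) ≠ 0 := Finset.prod_ne_zero_iff.2 fun i _ => hne i
  choose n hnpos hnz hdvd using fun i => exists_dvdAt (R := R) hF (Ideal.span {f i}) (fun q _ hq => htame i q hq)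
  obtain ⟨p, hp⟩ := CharP.exists (ResidueField A)
  rcases Nat.eq_zero_or_pos p with rfl | hpos
  · haveI := CharP.charP_to_charZero (ResidueField A)
    exact ⟨n, hnpos, fun i => isUnit_iff_ne_zero.2 (Nat.cast_ne_zero.2 (by have := hnpos i; omega)), hdvd⟩
  have hpp : p.Prime := (CharP.char_is_prime_or_zero (ResidueField A) p).resolve_right (by omega)
  have hn' : ∀ i, 1 ≤ n i / p ^ (n i).factorization p := fun i => Nat.ordCompl_pos p (by have := hnpos i; omega)
  refine ⟨fun i => n i / p ^ (n i).factorization p, hn', fun i => isUnit_iff_ne_zero.2 ?_,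
    dvdAt_primePart A r f hm hf htame n (fun i => (n i).factorization p) _ hn' p hpp (CharP.cast_eq_zero _ p)
      (fun i => (Nat.ordProj_mul_ordCompl_eq_self (n i) p).symm) hnz hdvd⟩
  rw [Ne, CharP.cast_eq_zero_iff (ResidueField A) p]
  exact Nat.not_dvd_ordCompl hpp (by have := hnpos i; omega)

/-- Invertible exponents: the ramification indices are prime to the residue characteristic. -/
theorem exists_exponents (A : Type u) [CommRing A] [IsRegularLocalRing A] [IsDomain A] (r : ℕ) (f : Fin r → A)
    (hm : ∀ i, f i ∈ maximalIdeal A)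
    (hf : LinearIndependent (ResidueField A) (fun i => (maximalIdeal A).toCotangent ⟨f i, hm i⟩))
    [∀ i, (Ideal.span {f i}).IsPrime]
    {R : Type u} [CommRing R] [Algebra A R] [Algebra (Localization.Away (∏ i, f i)) R]
    [IsScalarTower A (Localization.Away (∏ i, f i)) R]
    [Algebra.Etale (Localization.Away (∏ i, f i)) R] [Module.Finite (Localization.Away (∏ i, f i)) R]
    (htame : SGA1.IsTameAlong f (algebraMap A R)) :
    ∃ n : Fin r → ℕ, (∀ i, 1 ≤ n i) ∧ (∀ i, IsUnit ((n i : ℕ) : ResidueField A)) ∧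
      ∀ i, DvdAt (algebraMap A R) (Ideal.span {f i}) (n i) := by
  classical
  let S := Henselization.StrictHenselizationRing A
  haveI : IsRegularLocalRing S := (Groth.Agent.S2743.result A S).2 inferInstance
  haveI : IsDomain S := RegLocal.isDomain (R := S)
  haveI : HenselianLocalRing S := (inferInstance : Hensel.IsStrictHenselization A S).henselian
  haveI : IsSepClosed (ResidueField S) := (inferInstance : Hensel.IsStrictHenselization A S).isSepClosure.sep_closed
  haveI : Module.FaithfullyFlat A S := Groth.Agent.S0539.result A S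
  have hmap := Groth.Agent.S0538.result A S
  have hinj : Function.Injective (algebraMap A S) := FaithfulSMul.algebraMap_injective A S
  let fS : Fin r → S := fun i => algebraMap A S (f i)
  have hmS : ∀ i, fS i ∈ maximalIdeal S := fun i => hmap ▸ Ideal.mem_map_of_mem _ (hm i)
  have hnot : ∀ i, fS i ∉ maximalIdeal S ^ 2 ⊔ Ideal.span (fS '' {j | j ≠ i}) := fun i => notMem_map hmap f hm hf i
  have hfS : LinearIndependent (ResidueField S) (fun i => (maximalIdeal S).toCotangent ⟨fS i, hmS i⟩) :=
    linearIndependent_of_notMem fS hmS hnot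
  haveI : ∀ i, (Ideal.span {fS i}).IsPrime := fun i =>
    isPrime_span_param (hmS i) fun h => hnot i (Ideal.mem_sup_left h)
  have hne : ∀ i, f i ≠ 0 := fun i h0 => hf.ne_zero i (by
    show (maximalIdeal A).toCotangent ⟨f i, hm i⟩ = 0
    rw [show (⟨f i, hm i⟩ : maximalIdeal A) = 0 from Subtype.ext h0, map_zero])
  haveI := fun i => isDVR_span (hne i)
  have hF : (∏ i, f i) ≠ 0 := Finset.prod_ne_zero_iff.2 fun i _ => hne i
  have hneS : ∀ i, fS i ≠ 0 := fun i => (map_ne_zero_iff _ hinj).2 (hne i)
  haveI := fun i => isDVR_span (hneS i)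
  obtain ⟨algT, _⟩ := exists_algebra_tensor (∏ i, f i) R S
  letI := algT
  haveI := etale_tensor (∏ i, f i) R S
  haveI := finite_tensor (∏ i, f i) R S
  obtain ⟨algT', _, _, _⟩ := exists_cover_of_eq (S := S) (T := S ⊗[A] R) (map_prod (algebraMap A S) f Finset.univ)
  letI := algT'
  have hcomap : ∀ i, (Ideal.span {fS i}).comap (algebraMap A S) = Ideal.span {f i} := fun i => by
    rw [show Ideal.span {fS i} = (Ideal.span {f i}).map (algebraMap A S) by rw [Ideal.map_span, Set.image_singleton]]
    exact Ideal.comap_map_eq_self_of_faithfullyFlat _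
  have htameS : SGA1.IsTameAlong fS (algebraMap S (S ⊗[A] R)) := fun i P _ hP =>
    (fibre_place (F := ∏ i, f i) hF S hinj (f i) (fun q _ hq => htame i q hq) (Ideal.span {fS i}) (hcomap i) P hP).1
  obtain ⟨n, hn, hu, hdvd⟩ := exists_exponents_strict S r fS hmS hfS htameS
  refine ⟨n, hn, fun i => isUnit_iff_ne_zero.2 fun h0 => ?_,
    fun i => dvdAt_descend f hne S hinj fS (fun _ => rfl) i (hcomap i) (n i) (hdvd i)⟩
  refine (hu i).ne_zero ?_
  rw [← map_natCast (ResidueField.map (algebraMap A S)), h0, map_zero]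

end Groth.Agent.AbhyankarAbs
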