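import Groth.Prelude.Def_FEt
import Groth.Prelude.Def_SGA1
import Mathlib

/-! Affine models of finite étale covers of a basic open. -/

set_option autoImplicit false
universe u

open CategoryTheory CategoryTheory.Limits AlgebraicGeometry TensorProduct

namespace Groth.Agent.AbhyankarAbs

variable {A : Type u} [CommRing A] {F : A}

/-- The structure map on global sections. -/
noncomputable abbrev sectionsMap (V : FEt.Cat ((SGA1.specBasicOpen A F) : Scheme.{u})) : A →+* Γ(V.left, ⊤) :=
  ((V.hom ≫ (SGA1.specBasicOpen A F).ι).appTop).hom.comp (Scheme.ΓSpecIso (CommRingCat.of A)).inv.hom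

theorem isAffine_left (V : FEt.Cat ((SGA1.specBasicOpen A F) : Scheme.{u})) : IsAffine V.left := by
  haveI : IsFinite V.hom := V.prop.1
  haveI : IsAffine ((SGA1.specBasicOpen A F) : Scheme.{u}) :=
    .of_isIso (basicOpenIsoSpecAway (R := CommRingCat.of A) F).hom
  exact isAffine_of_isAffineHom (Y := ((SGA1.specBasicOpen A F) : Scheme.{u})) V.hom

theorem isoSpec_comp (V : FEt.Cat ((SGA1.specBasicOpen A F) : Scheme.{u})) [IsAffine V.left] :
    V.left.isoSpec.hom ≫ Spec.map (CommRingCat.ofHom (sectionsMap V)) = V.hom ≫ (SGA1.specBasicOpen A F).ι := by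
  rw [show CommRingCat.ofHom (sectionsMap V) =
    (Scheme.ΓSpecIso (CommRingCat.of A)).inv ≫ (V.hom ≫ (SGA1.specBasicOpen A F).ι).appTop from rfl, Spec.map_comp,
    ← Category.assoc, Scheme.isoSpec_hom_naturality, Category.assoc, Scheme.isoSpec_Spec_hom, ← Spec.map_comp,
    Iso.inv_hom_id, Spec.map_id, Category.comp_id]

/-- The ring of the cover is finite étale over `A_F`. -/
theorem exists_model (V : FEt.Cat ((SGA1.specBasicOpen A F) : Scheme.{u})) :
    letI : Algebra A Γ(V.left, ⊤) := (sectionsMap V).toAlgebra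
    ∃ _ : Algebra (Localization.Away F) Γ(V.left, ⊤),
      IsScalarTower A (Localization.Away F) Γ(V.left, ⊤) ∧ Algebra.Etale (Localization.Away F) Γ(V.left, ⊤) ∧
        Module.Finite (Localization.Away F) Γ(V.left, ⊤) := by
  haveI := isAffine_left V
  haveI : IsFinite V.hom := V.prop.1
  haveI : AlgebraicGeometry.Etale V.hom := V.prop.2
  letI : Algebra A Γ(V.left, ⊤) := (sectionsMap V).toAlgebra
  let e := basicOpenIsoSpecAway (R := CommRingCat.of A) F
  let h : Spec Γ(V.left, ⊤) ⟶ Spec (CommRingCat.of (Localization.Away F)) := V.left.isoSpec.inv ≫ V.hom ≫ e.hom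
  let ψ := Spec.preimage h
  have hψ : Spec.map ψ = h := Spec.map_preimage h
  have hfin : ψ.hom.Finite := by
    have h1 : IsFinite h := inferInstance
    rw [← hψ, IsFinite.SpecMap_iff] at h1
    exact h1
  have het : ψ.hom.Etale := by
    have h1 : AlgebraicGeometry.Etale h := inferInstance
    rw [← hψ] at h1
    exact HasRingHomProperty.Spec_iff.1 h1
  letI : Algebra (Localization.Away F) Γ(V.left, ⊤) := ψ.hom.toAlgebra
  have htow : CommRingCat.ofHom (algebraMap A (Localization.Away F)) ≫ ψ = CommRingCat.ofHom (sectionsMap V) := by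
    refine Spec.map_injective ?_
    rw [Spec.map_comp, hψ, ← cancel_epi V.left.isoSpec.hom, isoSpec_comp]
    simp only [h, Category.assoc, Iso.hom_inv_id_assoc]
    exact congrArg (V.hom ≫ ·) (basicOpenIsoSpecAway_hom_SpecMap (R := CommRingCat.of A) F)
  haveI : IsScalarTower A (Localization.Away F) Γ(V.left, ⊤) :=
    IsScalarTower.of_algebraMap_eq fun a => (RingHom.congr_fun (congrArg CommRingCat.Hom.hom htow) a).symm
  exact ⟨inferInstance, inferInstance, het, hfin⟩

/-- An étale extension of the base change to `A'` is an extension of the restricted cover. -/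
theorem exists_extension (V : FEt.Cat ((SGA1.specBasicOpen A F) : Scheme.{u})) (A' : Type u) [CommRing A'] [Algebra A A']
    (B : Type u) [CommRing B] [Algebra A' B] [Algebra.Etale A' B] [Module.Finite A' B]
    (hσ : letI : Algebra A Γ(V.left, ⊤) := (sectionsMap V).toAlgebra
      ∃ σ : B →ₐ[A'] A' ⊗[A] Γ(V.left, ⊤),
        @IsLocalization.Away _ _ (algebraMap A' B (algebraMap A A' F)) (A' ⊗[A] Γ(V.left, ⊤)) _ σ.toRingHom.toAlgebra) :
    ∃ W : FEt.Cat (Spec (CommRingCat.of A')),
      Nonempty ((FEt.restrict ((Spec.map (CommRingCat.ofHom (algebraMap A A'))) ⁻¹ᵁ (SGA1.specBasicOpen A F)).ι).obj W ≅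
        (FEt.restrict ((Spec.map (CommRingCat.ofHom (algebraMap A A'))) ∣_ (SGA1.specBasicOpen A F))).obj V) := by
  haveI := isAffine_left V
  letI : Algebra A Γ(V.left, ⊤) := (sectionsMap V).toAlgebra
  obtain ⟨σ, hσ⟩ := hσ
  let R := Γ(V.left, ⊤)
  let g : Spec (CommRingCat.of A') ⟶ Spec (CommRingCat.of A) := Spec.map (CommRingCat.ofHom (algebraMap A A'))
  let U := SGA1.specBasicOpen A F
  let U' := g ⁻¹ᵁ U
  let wB : Spec (CommRingCat.of B) ⟶ Spec (CommRingCat.of A') := Spec.map (CommRingCat.ofHom (algebraMap A' B))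
  have hwB : FEt.prop wB :=
    ⟨(IsFinite.SpecMap_iff _).2 (RingHom.finite_algebraMap.2 inferInstance),
      HasRingHomProperty.Spec_iff.2 (RingHom.etale_algebraMap.2 inferInstance)⟩
  let W : FEt.Cat (Spec (CommRingCat.of A')) := MorphismProperty.Over.mk ⊤ wB hwB
  let T := Spec (CommRingCat.of (A' ⊗[A] R))
  let iL : T ⟶ Spec (CommRingCat.of A') := Spec.map (CommRingCat.ofHom Algebra.TensorProduct.includeLeftRingHom)
  let iR : T ⟶ Spec (CommRingCat.of R) :=
    Spec.map (CommRingCat.ofHom (Algebra.TensorProduct.includeRight : R →ₐ[A] A' ⊗[A] R).toRingHom)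
  let a : T ⟶ V.left := iR ≫ V.left.isoSpec.inv
  -- the square over `U`
  have hsq : IsPullback iR iL (Spec.map (CommRingCat.ofHom (algebraMap A R))) g :=
    (isPullback_SpecMap_of_isPushout _ _ _ _ (CommRingCat.isPushout_tensorProduct A A' R)).flip
  have hsq' : IsPullback a iL (V.hom ≫ U.ι) g := by
    refine hsq.of_iso (Iso.refl _) V.left.isoSpec.symm (Iso.refl _) (Iso.refl _) ?_ ?_ ?_ ?_
    · simp [a]
    · simp
    · simp only [Iso.symm_hom, Iso.refl_hom, Category.comp_id]
      rw [Iso.eq_inv_comp]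
      exact isoSpec_comp V
    · simp
  have hrange : Set.range iL.base ⊆ Set.range U'.ι.base := by
    rintro _ ⟨t, rfl⟩
    rw [Scheme.Opens.range_ι]
    show g.base (iL.base t) ∈ U
    rw [← Scheme.Hom.comp_apply, ← hsq'.w, Scheme.Hom.comp_apply, Scheme.Hom.comp_apply]
    exact ((V.hom.base (a.base t))).2
  let u : T ⟶ (U' : Scheme.{u}) := IsOpenImmersion.lift U'.ι iL hrange
  have hu : u ≫ U'.ι = iL := IsOpenImmersion.lift_fac _ _ _
  have hw : a ≫ V.hom = u ≫ (g ∣_ U) := by
    rw [← cancel_mono U.ι]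
    exact ((Category.assoc _ _ _).trans hsq'.w).trans
      ((congrArg (· ≫ g) hu.symm).trans ((Category.assoc _ _ _).trans
        ((congrArg (u ≫ ·) (morphismRestrict_ι g U).symm).trans (Category.assoc _ _ _).symm)))
  have hR : IsPullback a u V.hom (g ∣_ U) :=
    IsPullback.of_bot (by rw [hu]; exact hsq') hw (isPullback_morphismRestrict g U)
  -- the square of `B`
  let s : T ⟶ Spec (CommRingCat.of B) := Spec.map (CommRingCat.ofHom σ.toRingHom)
  have hs : s ≫ wB = iL := by
    rw [← Spec.map_comp, ← CommRingCat.ofHom_comp]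
    exact congrArg (fun φ => Spec.map (CommRingCat.ofHom φ)) σ.comp_algebraMap
  letI := σ.toRingHom.toAlgebra
  haveI := hσ
  haveI : IsOpenImmersion s := IsOpenImmersion.of_isLocalization (algebraMap A' B (algebraMap A A' F))
  have hL : IsPullback s u wB U'.ι := by
    refine (IsOpenImmersion.isPullback u s U'.ι wB (by rw [hs, hu]) ?_).flip
    ext x
    show x ∈ wB ⁻¹ᵁ (U'.ι).opensRange ↔ x ∈ Set.range s.base
    rw [Scheme.Opens.opensRange_ι]
    show g.base (wB.base x) ∈ U ↔ _
    rw [show Set.range s.base = (PrimeSpectrum.basicOpen (algebraMap A' B (algebraMap A A' F)) : Set (PrimeSpectrum B)) from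
      PrimeSpectrum.localization_away_comap_range (A' ⊗[A] R) _]
    exact Iff.rfl
  exact ⟨W, ⟨MorphismProperty.Over.isoMk (hL.isoPullback.symm ≪≫ hR.isoPullback) (by
    show (hL.isoPullback.inv ≫ hR.isoPullback.hom) ≫ pullback.snd V.hom (g ∣_ U) = pullback.snd wB U'.ι
    rw [Category.assoc, hR.isoPullback_hom_snd, ← hL.isoPullback_inv_snd])⟩⟩

end Groth.Agent.AbhyankarAbs
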