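import Groth.Agent.AbhyankarAbs.Extend
import Groth.Agent.AbhyankarAbs.Exponents
import Groth.Agent.AbhyankarAbs.Scheme

/-! Over a strictly henselian base, Kummer covers dominate connected tame covers. -/

set_option autoImplicit false
universe u

open CategoryTheory CategoryTheory.Limits AlgebraicGeometry TensorProduct IsLocalRing

namespace Groth.Agent.AbhyankarAbs

/-- A reduced connected finite étale algebra over a normal domain is a domain. -/
theorem isDomain_of_connected {S R : Type u} [CommRing S] [IsDomain S] [IsIntegrallyClosed S] [IsNoetherianRing S]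
    [CommRing R] [Algebra S R] [Algebra.Etale S R] [Module.Finite S R] [ConnectedSpace (PrimeSpectrum R)] :
    IsDomain R := by
  classical
  haveI : IsNoetherianRing R := IsNoetherianRing.of_finite S R
  haveI : IsReduced R := EtNormalLib.isReduced (B := R) S
  haveI : Nontrivial R := PrimeSpectrum.nonempty_iff_nontrivial.1 inferInstance
  have hfin := minimalPrimes.finite_of_isNoetherianRing R
  obtain ⟨m, hm⟩ := Ideal.exists_maximal R
  haveI := hm.isPrime
  obtain ⟨P, hP, -⟩ := Ideal.exists_minimalPrimes_le (bot_le : (⊥ : Ideal R) ≤ m)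
  haveI : P.IsPrime := hP.1.1
  have huniq : ∀ Q ∈ minimalPrimes R, Q = P := by
    intro Q hQ
    by_contra hne
    haveI : Q.IsPrime := hQ.1.1
    have hclosed : IsClosed (PrimeSpectrum.zeroLocus (P : Set R)) := PrimeSpectrum.isClosed_zeroLocus _
    have hcompl : (PrimeSpectrum.zeroLocus (P : Set R))ᶜ =
        ⋃ Q' ∈ {Q' ∈ minimalPrimes R | Q' ≠ P}, PrimeSpectrum.zeroLocus (Q' : Set R) := by
      ext x
      simp only [Set.mem_compl_iff, PrimeSpectrum.mem_zeroLocus, SetLike.coe_subset_coe, Set.mem_iUnion, Set.mem_setOf_eq]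
      constructor
      · intro hx
        obtain ⟨Q', hQ', hle⟩ := Ideal.exists_minimalPrimes_le (bot_le : (⊥ : Ideal R) ≤ x.asIdeal)
        exact ⟨Q', ⟨hQ', fun h => hx (h ▸ hle)⟩, hle⟩
      · rintro ⟨Q', ⟨hQ', hne'⟩, hle⟩ hx
        exact hne' (EtNormalLib.eq_of_minimalPrimes_le S hQ' hP hle hx)
    have hopen : IsOpen (PrimeSpectrum.zeroLocus (P : Set R)) := by
      rw [← isClosed_compl_iff, hcompl]
      exact (hfin.subset fun Q' hQ' => hQ'.1).isClosed_biUnion fun Q' _ => PrimeSpectrum.isClosed_zeroLocus _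
    have huniv := IsClopen.eq_univ (⟨hclosed, hopen⟩ : IsClopen (PrimeSpectrum.zeroLocus (P : Set R)))
      ⟨⟨P, inferInstance⟩, PrimeSpectrum.mem_zeroLocus _ _ |>.2 subset_rfl⟩
    have hPQ : (⟨Q, inferInstance⟩ : PrimeSpectrum R) ∈ PrimeSpectrum.zeroLocus (P : Set R) := huniv ▸ Set.mem_univ _
    exact hne (le_antisymm (hQ.2 ⟨inferInstance, bot_le⟩ (PrimeSpectrum.mem_zeroLocus _ _ |>.1 hPQ))
      (PrimeSpectrum.mem_zeroLocus _ _ |>.1 hPQ))
  have hbot : P = ⊥ := by
    refine eq_bot_iff.2 fun x hx => (Submodule.mem_bot R).2 (IsNilpotent.eq_zero ?_)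
    have h : sInf (minimalPrimes R) = (⊥ : Ideal R).radical := Ideal.sInf_minimalPrimes
    rw [show minimalPrimes R = {P} from Set.eq_singleton_iff_unique_mem.2 ⟨hP, huniq⟩, sInf_singleton] at h
    obtain ⟨k, hk⟩ : x ∈ (⊥ : Ideal R).radical := h ▸ hx
    exact ⟨k, (Submodule.mem_bot R).1 hk⟩
  haveI : (⊥ : Ideal R).IsPrime := hbot ▸ hP.1.1
  exact IsDomain.of_bot_isPrime R

theorem exists_point_aux {A : Type u} [CommRing A] [IsDomain A] [IsIntegrallyClosed A] [IsNoetherianRing A]
    [HenselianLocalRing A] {r : ℕ} (f : Fin r → A) (hne : ∀ i, f i ≠ 0)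
    (R : Type u) [CommRing R] [Algebra A R] [Algebra (Localization.Away (∏ i, f i)) R]
    [IsScalarTower A (Localization.Away (∏ i, f i)) R]
    [Algebra.Etale (Localization.Away (∏ i, f i)) R] [Module.Finite (Localization.Away (∏ i, f i)) R]
    [ConnectedSpace (PrimeSpectrum R)]
    (A' : Type u) [CommRing A'] [IsDomain A'] [IsLocalRing A'] [IsSepClosed (ResidueField A')] [Algebra A A']
    [Module.Finite A A'] (hinjA' : Function.Injective (algebraMap A A'))
    (B : Type u) [CommRing B] [Algebra A' B] [Algebra.Etale A' B] [Module.Finite A' B] (σ : B →ₐ[A'] A' ⊗[A] R)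
    (hσ : @IsLocalization.Away _ _ (algebraMap A' B (algebraMap A A' (∏ i, f i))) (A' ⊗[A] R) _ σ.toRingHom.toAlgebra) :
    ∃ χ : R →ₐ[A] Localization.Away (algebraMap A A' (∏ i, f i)),
      Function.Surjective (PrimeSpectrum.comap χ.toRingHom) := by
  classical
  let F := ∏ i, f i
  have hF : F ≠ 0 := Finset.prod_ne_zero_iff.2 fun i _ => hne i
  let AF := Localization.Away F
  have hle : Submonoid.powers F ≤ nonZeroDivisors A := powers_le_nonZeroDivisors_of_noZeroDivisors hF
  haveI : IsDomain AF := IsLocalization.isDomain_of_le_nonZeroDivisors AF hle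
  haveI : IsIntegrallyClosed AF := isIntegrallyClosed_of_isLocalization AF (Submonoid.powers F) hle
  haveI : IsNoetherianRing AF := IsLocalization.isNoetherianRing (Submonoid.powers F) AF inferInstance
  haveI : IsDomain R := isDomain_of_connected (S := AF)
  -- a point of the base change
  have hAR : Function.Injective (algebraMap AF R) := by
    haveI : IsReduced R := inferInstance
    rw [RingHom.injective_iff_ker_eq_bot, RingHom.ker_eq_comap_bot]
    exact EtNormalLib.comap_eq_bot_of_minimalPrimes (A := AF)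
      (show (⊥ : Ideal R) ∈ minimalPrimes R from ⟨⟨Ideal.isPrime_bot, bot_le⟩, fun _ _ _ => bot_le⟩)
  have hARA : Function.Injective (algebraMap A R) := by
    rw [IsScalarTower.algebraMap_eq A AF R]; exact hAR.comp (IsLocalization.injective AF hle)
  let K := FractionRing A
  let Ω := AlgebraicClosure K
  have hAΩ : Function.Injective (algebraMap A Ω) := by
    rw [IsScalarTower.algebraMap_eq A K Ω]; exact (algebraMap K Ω).injective.comp (IsFractionRing.injective A K)
  haveI : FaithfulSMul A Ω := (faithfulSMul_iff_algebraMap_injective A Ω).2 hAΩ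
  haveI : FaithfulSMul A A' := (faithfulSMul_iff_algebraMap_injective A A').2 hinjA'
  let K₁ := (⊥ : Ideal R).ResidueField
  have hinjK : Function.Injective (algebraMap A K₁) := by
    rw [IsScalarTower.algebraMap_eq A R K₁, RingHom.injective_iff_ker_eq_bot, ← RingHom.comap_ker,
      Ideal.ker_algebraMap_residueField, ← RingHom.ker_eq_comap_bot, ← RingHom.injective_iff_ker_eq_bot]
    exact hARA
  letI : Algebra K K₁ := (IsFractionRing.lift hinjK).toAlgebra
  haveI : IsScalarTower A K K₁ := IsScalarTower.of_algebraMap_eq fun a => (IsFractionRing.lift_algebraMap hinjK a).symm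
  obtain ⟨_, -⟩ := separable_finite_of_etale F hF K (IsScalarTower.toAlgHom A R K₁) (residueField_fractions (⊥ : Ideal R))
  let ρ : A' →ₐ[A] Ω := IsAlgClosed.lift
  have hρ : Function.Injective ρ := injective_of_finite ρ hAΩ
  let ψK : K₁ →ₐ[K] Ω := IsAlgClosed.lift
  let ψ : R →ₐ[A] Ω := (ψK.restrictScalars A).comp (IsScalarTower.toAlgHom A R K₁)
  let Φ : A' ⊗[A] R →ₐ[A] Ω := Algebra.TensorProduct.lift ρ ψ fun _ _ => Commute.all _ _
  letI : Algebra A' Ω := ρ.toRingHom.toAlgebra
  let ψB : B →ₐ[A'] Ω :=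
    { Φ.toRingHom.comp σ.toRingHom with
      commutes' := fun a => by
        show Φ (σ (algebraMap A' B a)) = ρ a
        rw [σ.commutes]
        show Φ (a ⊗ₜ[A] (1 : R)) = ρ a
        rw [Algebra.TensorProduct.lift_tmul, map_one, mul_one] }
  choose s hs using fun b => mem_range_of_etale (A := A) ψB b
  let sec : B →+* A' :=
    { toFun := s
      map_one' := hρ (((hs 1).trans (map_one ψB)).trans (map_one ρ).symm)
      map_mul' := fun x y => hρ (by
        rw [map_mul]
        exact (hs (x * y)).trans ((map_mul ψB x y).trans (congrArg₂ (· * ·) (hs x).symm (hs y).symm)))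
      map_zero' := hρ (((hs 0).trans (map_zero ψB)).trans (map_zero ρ).symm)
      map_add' := fun x y => hρ (by
        rw [map_add]
        exact (hs (x + y)).trans ((map_add ψB x y).trans (congrArg₂ (· + ·) (hs x).symm (hs y).symm))) }
  have hsec : ∀ a, sec (algebraMap A' B a) = a := fun a => hρ ((hs _).trans (ψB.commutes a))
  let F' := algebraMap A A' F
  let A'F := Localization.Away F'
  letI := σ.toRingHom.toAlgebra
  haveI := hσ
  have hsu : IsUnit ((algebraMap A' A'F).comp sec (algebraMap A' B F')) := by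
    rw [RingHom.comp_apply, hsec]; exact IsLocalization.Away.algebraMap_isUnit F'
  let lT : A' ⊗[A] R →+* A'F := IsLocalization.Away.lift (algebraMap A' B F') hsu
  have hlT : ∀ b, lT (σ b) = algebraMap A' A'F (sec b) := fun b => IsLocalization.Away.lift_eq _ _ b
  let χ : R →ₐ[A] A'F :=
    { lT.comp (Algebra.TensorProduct.includeRight : R →ₐ[A] A' ⊗[A] R).toRingHom with
      commutes' := fun a => by
        show lT ((Algebra.TensorProduct.includeRight : R →ₐ[A] A' ⊗[A] R) (algebraMap A R a)) = _
        rw [AlgHom.commutes, IsScalarTower.algebraMap_apply A A' (A' ⊗[A] R), ← σ.commutes, hlT, hsec,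
          ← IsScalarTower.algebraMap_apply] }
  refine ⟨χ, ?_⟩
  have hle' : Submonoid.powers F' ≤ nonZeroDivisors A' :=
    powers_le_nonZeroDivisors_of_noZeroDivisors ((map_ne_zero_iff _ hinjA').2 hF)
  haveI : IsDomain A'F := IsLocalization.isDomain_of_le_nonZeroDivisors A'F hle'
  have hAA'F : Function.Injective (algebraMap A A'F) := by
    rw [IsScalarTower.algebraMap_eq A A' A'F]; exact (IsLocalization.injective A'F hle').comp hinjA'
  haveI : IsScalarTower A AF R := inferInstance
  have hχinj : Function.Injective χ.toRingHom := by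
    rw [RingHom.injective_iff_ker_eq_bot]
    haveI : (RingHom.ker χ.toRingHom).IsPrime := RingHom.ker_isPrime _
    haveI : Algebra.IsIntegral AF R := Algebra.IsIntegral.of_finite AF R
    refine Ideal.eq_bot_of_comap_eq_bot (R := AF) (eq_bot_iff.2 fun z hz => ?_)
    obtain ⟨a, t, rfl⟩ := IsLocalization.exists_mk'_eq (Submonoid.powers F) z
    have h1 : χ (algebraMap A R a) = 0 := by
      rw [IsScalarTower.algebraMap_apply A AF R, ← IsLocalization.mk'_spec AF a t, map_mul, map_mul,
        show χ (algebraMap AF R (IsLocalization.mk' AF a t)) = 0 from hz, zero_mul]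
    rw [χ.commutes, map_eq_zero_iff _ hAA'F] at h1
    rw [h1, IsLocalization.mk'_zero]; exact Ideal.zero_mem _
  have hint : χ.toRingHom.IsIntegral := by
    haveI : Algebra.IsIntegral A A' := Algebra.IsIntegral.of_finite A A'
    intro z
    obtain ⟨a, ⟨_, k, rfl⟩, rfl⟩ := IsLocalization.exists_mk'_eq (Submonoid.powers F') z
    have huF : IsUnit (algebraMap A R F) := by
      rw [IsScalarTower.algebraMap_apply A AF R]; exact (IsLocalization.Away.algebraMap_isUnit F).map _
    have h1 : χ.toRingHom.IsIntegralElem (algebraMap A' A'F a) := by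
      have hm : (algebraMap A A'F).IsIntegralElem (algebraMap A' A'F a) :=
        (Algebra.IsIntegral.isIntegral (R := A) a).map (IsScalarTower.toAlgHom A A' A'F)
      obtain ⟨p, hp, hpe⟩ := hm
      refine ⟨p.map (algebraMap A R), hp.map _, ?_⟩
      rw [Polynomial.eval₂_map]
      rw [show χ.toRingHom.comp (algebraMap A R) = algebraMap A A'F from χ.comp_algebraMap]
      exact hpe
    have h2 : IsLocalization.mk' A'F a (⟨F' ^ k, k, rfl⟩ : Submonoid.powers F') =
        algebraMap A' A'F a * χ.toRingHom (↑((huF.pow k).unit⁻¹) : R) := by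
      rw [IsLocalization.mk'_eq_iff_eq_mul, mul_assoc,
        show algebraMap A' A'F (F' ^ k) = χ.toRingHom ((algebraMap A R F) ^ k) by
          rw [map_pow, map_pow]; congr 1; exact (IsScalarTower.algebraMap_apply A A' A'F F).symm.trans (χ.commutes F).symm,
        ← map_mul, IsUnit.val_inv_mul, map_one, mul_one]
    rw [h2]
    exact RingHom.IsIntegralElem.mul χ.toRingHom h1 χ.toRingHom.isIntegralElem_map
  exact hint.comap_surjective hχinj


/-- A strictly henselian base: the Kummer algebra receives the cover. -/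
theorem exists_point (A : Type u) [CommRing A] [IsRegularLocalRing A] [IsDomain A] [HenselianLocalRing A]
    [IsSepClosed (ResidueField A)] (r : ℕ) (f : Fin r → A) (hm : ∀ i, f i ∈ maximalIdeal A)
    (hf : LinearIndependent (ResidueField A) (fun i => (maximalIdeal A).toCotangent ⟨f i, hm i⟩))
    [∀ i, (Ideal.span {f i}).IsPrime]
    (R : Type u) [CommRing R] [Algebra A R] [Algebra (Localization.Away (∏ i, f i)) R]
    [IsScalarTower A (Localization.Away (∏ i, f i)) R]
    [Algebra.Etale (Localization.Away (∏ i, f i)) R] [Module.Finite (Localization.Away (∏ i, f i)) R]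
    [ConnectedSpace (PrimeSpectrum R)] (htame : SGA1.IsTameAlong f (algebraMap A R)) :
    ∃ n : Fin r → ℕ, (∀ i, 1 ≤ n i) ∧ (∀ i, IsUnit ((n i : ℕ) : ResidueField A)) ∧
      ∃ χ : R →ₐ[A] Localization.Away (algebraMap A (SGA1.kummerAlg A f n) (∏ i, f i)),
        Function.Surjective (PrimeSpectrum.comap χ.toRingHom) := by
  classical
  obtain ⟨n, hn, hu, hdvd⟩ := exists_exponents_strict A r f hm hf htame
  refine ⟨n, hn, hu, ?_⟩
  have hne : ∀ i, f i ≠ 0 := fun i h0 => hf.ne_zero i (by
    show (maximalIdeal A).toCotangent ⟨f i, hm i⟩ = 0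
    rw [show (⟨f i, hm i⟩ : maximalIdeal A) = 0 from Subtype.ext h0, map_zero])
  obtain ⟨B, _, _, hB, hBf, σ, hσ⟩ := etale_extension A r f hm hf R htame n hn hdvd
  haveI := hB
  haveI := hBf
  haveI hAreg : IsRegularLocalRing (SGA1.kummerAlg A f n) := KummerRegLib.isRegularLocalRing f n hm hf hn
  obtain ⟨hd', -⟩ := PurityLib.isIntegrallyClosed_of_regular (SGA1.kummerAlg A f n)
  haveI := hd'
  haveI : Module.Finite A (SGA1.kummerAlg A f n) := KummerRegLib.module_finite f n hn
  haveI : IsSepClosed (ResidueField (SGA1.kummerAlg A f n)) := isSepClosed_kummer f n hn hm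
  haveI : IsIntegrallyClosed A := (PurityLib.isIntegrallyClosed_of_regular A).2
  exact exists_point_aux f hne R (SGA1.kummerAlg A f n) (KummerRegLib.algebraMap_injective f n hn) B σ hσ

/-- A point of the cover gives a map of schemes over the open. -/
theorem exists_hom {A : Type u} [CommRing A] {F : A} (V : FEt.Cat ((SGA1.specBasicOpen A F) : Scheme.{u}))
    (A' : Type u) [CommRing A'] [Algebra A A']
    (hχ : letI : Algebra A Γ(V.left, ⊤) := (sectionsMap V).toAlgebra
      ∃ χ : Γ(V.left, ⊤) →ₐ[A] Localization.Away (algebraMap A A' F),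
        Function.Surjective (PrimeSpectrum.comap χ.toRingHom)) :
    ∃ φ : (↑((Spec.map (CommRingCat.ofHom (algebraMap A A'))) ⁻¹ᵁ (SGA1.specBasicOpen A F)) : Scheme.{u}) ⟶ V.left,
      φ ≫ V.hom = (Spec.map (CommRingCat.ofHom (algebraMap A A'))) ∣_ (SGA1.specBasicOpen A F) ∧ Surjective φ := by
  haveI := isAffine_left V
  letI : Algebra A Γ(V.left, ⊤) := (sectionsMap V).toAlgebra
  obtain ⟨χ, hsurj⟩ := hχ
  let g : Spec (CommRingCat.of A') ⟶ Spec (CommRingCat.of A) := Spec.map (CommRingCat.ofHom (algebraMap A A'))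
  let U := SGA1.specBasicOpen A F
  let j : Spec (CommRingCat.of (Localization.Away (algebraMap A A' F))) ⟶ Spec (CommRingCat.of A') :=
    Spec.map (CommRingCat.ofHom (algebraMap A' (Localization.Away (algebraMap A A' F))))
  haveI : IsOpenImmersion j := IsOpenImmersion.of_isLocalization (algebraMap A A' F)
  have hrange : Set.range (g ⁻¹ᵁ U).ι.base = Set.range j.base := by
    rw [Scheme.Opens.range_ι]
    exact (PrimeSpectrum.localization_away_comap_range _ _).symm
  let e := IsOpenImmersion.isoOfRangeEq (g ⁻¹ᵁ U).ι j hrange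
  let c : Spec (CommRingCat.of (Localization.Away (algebraMap A A' F))) ⟶ Spec (CommRingCat.of Γ(V.left, ⊤)) :=
    Spec.map (CommRingCat.ofHom χ.toRingHom)
  haveI : Surjective c := ⟨hsurj⟩
  refine ⟨e.hom ≫ c ≫ V.left.isoSpec.inv, ?_, inferInstance⟩
  have hiso : V.left.isoSpec.inv ≫ V.hom ≫ U.ι = Spec.map (CommRingCat.ofHom (sectionsMap V)) := by
    rw [Iso.inv_comp_eq]; exact (isoSpec_comp V).symm
  have hc : c ≫ Spec.map (CommRingCat.ofHom (sectionsMap V)) = j ≫ g := by
    rw [← Spec.map_comp, ← Spec.map_comp, ← CommRingCat.ofHom_comp, ← CommRingCat.ofHom_comp]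
    exact congrArg (fun φ => Spec.map (CommRingCat.ofHom φ))
      (χ.comp_algebraMap.trans (IsScalarTower.algebraMap_eq A A' _))
  rw [← cancel_mono U.ι, morphismRestrict_ι]
  simp only [Category.assoc]
  rw [hiso, hc, ← Category.assoc, IsOpenImmersion.isoOfRangeEq_hom_fac]

end Groth.Agent.AbhyankarAbs
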