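import Groth.Agent.AbhyankarAbs.BaseChange

/-! The integral closure in a component of the pulled back cover. -/

set_option autoImplicit false
universe u

namespace Groth.Agent.AbhyankarAbs
open IsLocalRing TensorProduct

section
variable {A : Type u} [CommRing A] [IsDomain A] [IsNoetherianRing A] [IsIntegrallyClosed A] {r : ℕ} (f : Fin r → A)
  [∀ i, (Ideal.span {f i}).IsPrime]
  {R : Type u} [CommRing R] [Algebra A R] [Algebra (Localization.Away (∏ i, f i)) R]
  [IsScalarTower A (Localization.Away (∏ i, f i)) R]
  [Algebra.Etale (Localization.Away (∏ i, f i)) R] [Module.Finite (Localization.Away (∏ i, f i)) R]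
  (hne : ∀ i, f i ≠ 0) (htame : SGA1.IsTameAlong f (algebraMap A R))
  (A' : Type u) [CommRing A'] [IsDomain A'] [IsIntegrallyClosed A'] [IsNoetherianRing A'] [Algebra A A']
  [Module.Finite A A'] (hinj : Function.Injective (algebraMap A A'))
  (P : Ideal (A' ⊗[A] R)) [P.IsPrime] (hP : P.comap (algebraMap A' (A' ⊗[A] R)) = ⊥)

include hne hinj hP in
/-- Basic properties of a component. -/
theorem component_basic :
    IsFractionRing (integralClosure A' P.ResidueField) P.ResidueField ∧
      Module.Finite A' (integralClosure A' P.ResidueField) ∧ IsIntegrallyClosed (integralClosure A' P.ResidueField) := by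
  classical
  let F := ∏ i, f i
  have hF : F ≠ 0 := Finset.prod_ne_zero_iff.2 fun i _ => hne i
  have hF' : algebraMap A A' F ≠ 0 := (map_ne_zero_iff _ hinj).2 hF
  obtain ⟨algT, _⟩ := exists_algebra_tensor F R A'
  letI := algT
  haveI := etale_tensor F R A'
  haveI := finite_tensor F R A'
  let K' := FractionRing A'
  let L := P.ResidueField
  have hPA' : Function.Injective (algebraMap A' L) := by
    rw [IsScalarTower.algebraMap_eq A' (A' ⊗[A] R) L, RingHom.injective_iff_ker_eq_bot, ← RingHom.comap_ker,
      Ideal.ker_algebraMap_residueField]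
    exact hP
  letI : Algebra K' L := (IsFractionRing.lift hPA').toAlgebra
  haveI : IsScalarTower A' K' L := IsScalarTower.of_algebraMap_eq fun a => (IsFractionRing.lift_algebraMap hPA' a).symm
  obtain ⟨_, _⟩ := separable_finite_of_etale (algebraMap A A' F) hF' K'
    (IsScalarTower.toAlgHom A' (A' ⊗[A] R) L) (residueField_fractions P)
  exact ⟨integralClosure.isFractionRing_of_finite_extension K' L, IsIntegralClosure.finite A' K' L _,
    integralClosure.isIntegrallyClosedOfFiniteExtension K'⟩

include hne htame hinj hP in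
/-- Unramified in codimension one, at the places where the roots are deep enough. -/
theorem component_unramifiedAt (n : Fin r → ℕ) (x : Fin r → A') (hx : ∀ i, x i ^ n i = algebraMap A A' (f i))
    (Q : Ideal (integralClosure A' P.ResidueField)) [Q.IsPrime] (hQ : (Q.under A').height ≤ 1)
    (hdvd : ∀ i, algebraMap A A' (f i) ∈ Q.under A' → DvdAt (algebraMap A R) (Ideal.span {f i}) (n i)) :
    Algebra.IsUnramifiedAt A' Q := by
  classical
  let F := ∏ i, f i
  have hF : F ≠ 0 := Finset.prod_ne_zero_iff.2 fun i _ => hne i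
  let F' := algebraMap A A' F
  have hF' : F' ≠ 0 := (map_ne_zero_iff _ hinj).2 hF
  obtain ⟨algT, _⟩ := exists_algebra_tensor F R A'
  letI := algT
  haveI := etale_tensor F R A'
  haveI := finite_tensor F R A'
  let L := P.ResidueField
  let BP := integralClosure A' L
  obtain ⟨_, _, _⟩ := component_basic f hne A' hinj P hP
  have hPA' : Function.Injective (algebraMap A' L) := by
    rw [IsScalarTower.algebraMap_eq A' (A' ⊗[A] R) L, RingHom.injective_iff_ker_eq_bot, ← RingHom.comap_ker,
      Ideal.ker_algebraMap_residueField]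
    exact hP
  by_cases hFQ : algebraMap A' BP F' ∈ Q
  swap
  · exact isUnramifiedAt_away hPA' F' hF' (IsScalarTower.toAlgHom A' (A' ⊗[A] R) L) (residueField_fractions P) Q hFQ
  haveI : FaithfulSMul A' BP := (faithfulSMul_iff_algebraMap_injective A' BP).2 fun a b h =>
    hPA' (congrArg Subtype.val h)
  haveI : FaithfulSMul A A' := (faithfulSMul_iff_algebraMap_injective A A').2 hinj
  haveI : IsNoetherianRing BP := IsNoetherianRing.of_finite A' BP
  let p := Q.under A'
  haveI : Q.LiesOver p := ⟨rfl⟩
  have hFp : F' ∈ p := hFQ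
  have hp0 : p.height ≠ 0 := fun h0 => hF' (by
    have hbot : p = ⊥ := Ideal.height_eq_zero_iff_eq_bot.1 h0
    exact (Ideal.mem_bot).1 (hbot ▸ hFp))
  have hp1 : p.height = 1 := le_antisymm hQ (Order.one_le_iff_pos.2 (pos_iff_ne_zero.2 hp0))
  haveI : IsDiscreteValuationRing (Localization.AtPrime p) := isDVR_of_height_one p hp1
  haveI : IsDiscreteValuationRing (Localization.AtPrime Q) :=
    isDVR_of_height_one Q ((height_eq_under (A := A') Q).trans hp1)
  have hFp' : F ∈ p.comap (algebraMap A A') := hFp
  obtain ⟨i, -, hi⟩ := (inferInstance : (p.comap (algebraMap A A')).IsPrime).prod_mem_iff.1 hFp'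
  have hpA : p.comap (algebraMap A A') = Ideal.span {f i} := by
    refine le_antisymm ?_ ((Ideal.span_singleton_le_iff_mem _).2 hi)
    by_contra hne'
    have hlt : Ideal.span {f i} < p.comap (algebraMap A A') :=
      lt_of_le_of_ne ((Ideal.span_singleton_le_iff_mem _).2 hi) fun h => hne' h.ge
    have h1 := Ideal.height_strict_mono_of_isPrime hlt
    rw [show p.comap (algebraMap A A') = p.under A from rfl, ← height_eq_under (A := A) p, hp1, Order.lt_one_iff,
      Ideal.height_eq_zero_iff_eq_bot, Ideal.span_singleton_eq_bot] at h1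
    exact hne i h1
  haveI := isDVR_span (hne i)
  obtain ⟨-, hunr⟩ := fibre_place (F := F) hF A' hinj (f i) (fun q _ hq => htame i q hq) p hpA P hP
  letI : Algebra (Localization.AtPrime p) L := (SGA1.genericResidueMap (algebraMap A' (A' ⊗[A] R)) p P hP).toAlgebra
  refine isUnramifiedAt_of_unramifiedExt (L := L) Q p ?_ (hunr (n i) (x i) (hx i) (hdvd i hi))
  refine RingHom.ext fun a => ?_
  show SGA1.genericResidueMap (algebraMap A' (A' ⊗[A] R)) p P hP (algebraMap A' _ a) = algebraMap BP L (algebraMap A' BP a)
  rw [genericResidueMap_algebraMap, ← IsScalarTower.algebraMap_apply A' (A' ⊗[A] R) L, ← IsScalarTower.algebraMap_apply]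

end

end Groth.Agent.AbhyankarAbs
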