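import Groth.Agent.AbhyankarAbs.PrimePart
import Groth.Agent.Henselization.Transfer
import Groth.Agent.S2743
import Groth.Agent.S0538
import Groth.Agent.S0539

/-! Descent of the exponents from the strict henselization. -/

set_option autoImplicit false
universe u

namespace Groth.Agent.AbhyankarAbs
open IsLocalRing TensorProduct

/-- Transport of the structure of an étale cover along an equality of the inverted element. -/
theorem exists_cover_of_eq {S : Type u} [CommRing S] {T : Type u} [CommRing T] [Algebra S T] {F G : S} (h : F = G)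
    [Algebra (Localization.Away F) T] [IsScalarTower S (Localization.Away F) T] [Algebra.Etale (Localization.Away F) T]
    [Module.Finite (Localization.Away F) T] :
    ∃ (_ : Algebra (Localization.Away G) T), IsScalarTower S (Localization.Away G) T ∧
      Algebra.Etale (Localization.Away G) T ∧ Module.Finite (Localization.Away G) T := by
  subst h
  exact ⟨inferInstance, inferInstance, inferInstance, inferInstance⟩

/-- A field receiving both a valuation ring and a larger discrete valuation ring, with compatible centres. -/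
theorem exists_common_place {Ai : Type u} [CommRing Ai] [IsDomain Ai] [IsDiscreteValuationRing Ai] (V Si : Type u)
    [CommRing V] [IsDomain V] [IsLocalRing V] [CommRing Si] [IsDomain Si] [IsLocalRing Si] [Algebra Ai V] [Algebra Ai Si]
    [IsLocalHom (algebraMap Ai V)] [IsLocalHom (algebraMap Ai Si)]
    (hV : Function.Injective (algebraMap Ai V)) (hS : Function.Injective (algebraMap Ai Si)) :
    ∃ (M : Type u) (_ : Field M) (a : V →+* M) (b : Si →+* M) (W : ValuationSubring M),
      a.comp (algebraMap Ai V) = b.comp (algebraMap Ai Si) ∧ Function.Injective a ∧ Function.Injective b ∧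
      (∀ v, a v ∈ W) ∧ (∀ x, b x ∈ W) ∧ (∀ v ∈ maximalIdeal V, W.valuation (a v) < 1) ∧
      (∀ x ∈ maximalIdeal Si, W.valuation (b x) < 1) := by
  classical
  haveI : Module.IsTorsionFree Ai V := by
    haveI : FaithfulSMul Ai V := (faithfulSMul_iff_algebraMap_injective Ai V).2 hV
    infer_instance
  haveI : Module.IsTorsionFree Ai Si := by
    haveI : FaithfulSMul Ai Si := (faithfulSMul_iff_algebraMap_injective Ai Si).2 hS
    infer_instance
  haveI : Module.Flat Ai V := inferInstance
  haveI : Module.Flat Ai Si := inferInstance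
  obtain ⟨M₀, _, _, i₁, i₂, -⟩ :=
    WeakUnram.exists_compositum (ResidueField Ai) (ResidueField V) (ResidueField Si)
  letI : Algebra Ai M₀ := ((algebraMap (ResidueField Ai) M₀).comp (algebraMap Ai (ResidueField Ai))).toAlgebra
  haveI : IsScalarTower Ai (ResidueField Ai) M₀ := IsScalarTower.of_algebraMap_eq' rfl
  let l : V →ₐ[Ai] M₀ := (i₁.restrictScalars Ai).comp (IsScalarTower.toAlgHom Ai V (ResidueField V))
  let r : Si →ₐ[Ai] M₀ := (i₂.restrictScalars Ai).comp (IsScalarTower.toAlgHom Ai Si (ResidueField Si))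
  let ev : V ⊗[Ai] Si →ₐ[Ai] M₀ := Algebra.TensorProduct.lift l r fun _ _ => Commute.all _ _
  let 𝔐 : Ideal (V ⊗[Ai] Si) := RingHom.ker ev.toRingHom
  haveI : 𝔐.IsPrime := RingHom.ker_isPrime _
  obtain ⟨𝔭, h𝔭, h𝔭𝔐⟩ := Ideal.exists_minimalPrimes_le (bot_le : (⊥ : Ideal (V ⊗[Ai] Si)) ≤ 𝔐)
  haveI : 𝔭.IsPrime := h𝔭.1.1
  have hdisj := Ideal.disjoint_nonZeroDivisors_of_mem_minimalPrimes h𝔭
  have hnzV : ∀ v : V, v ≠ 0 → (v ⊗ₜ[Ai] (1 : Si)) ∈ nonZeroDivisors (V ⊗[Ai] Si) := by
    intro v hv
    have hinj : Function.Injective (LinearMap.mulLeft Ai v) := fun x y h => mul_left_cancel₀ hv h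
    have h2 := Module.Flat.rTensor_preserves_injective_linearMap (M := Si) _ hinj
    refine mem_nonZeroDivisors_iff_right.2 fun t ht => h2 ?_
    rw [map_zero]
    have h3 : ∀ t : V ⊗[Ai] Si, (LinearMap.mulLeft Ai v).rTensor Si t = t * (v ⊗ₜ[Ai] (1 : Si)) := fun t => by
      induction t using TensorProduct.induction_on with
      | zero => simp
      | add x y hx hy => rw [map_add, hx, hy, add_mul]
      | tmul a b => rw [LinearMap.rTensor_tmul, LinearMap.mulLeft_apply, Algebra.TensorProduct.tmul_mul_tmul, mul_one, mul_comm]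
    rw [h3]; exact ht
  have hnzS : ∀ x : Si, x ≠ 0 → ((1 : V) ⊗ₜ[Ai] x) ∈ nonZeroDivisors (V ⊗[Ai] Si) := by
    intro x hx
    have hinj : Function.Injective (LinearMap.mulLeft Ai x) := fun a b h => mul_left_cancel₀ hx h
    have h2 := Module.Flat.lTensor_preserves_injective_linearMap (M := V) _ hinj
    refine mem_nonZeroDivisors_iff_right.2 fun t ht => h2 ?_
    rw [map_zero]
    have h3 : ∀ t : V ⊗[Ai] Si, (LinearMap.mulLeft Ai x).lTensor V t = t * ((1 : V) ⊗ₜ[Ai] x) := fun t => by
      induction t using TensorProduct.induction_on with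
      | zero => simp
      | add u w hu hw => rw [map_add, hu, hw, add_mul]
      | tmul a b => rw [LinearMap.lTensor_tmul, LinearMap.mulLeft_apply, Algebra.TensorProduct.tmul_mul_tmul, mul_one, mul_comm]
    rw [h3]; exact ht
  let M := 𝔭.ResidueField
  have hu : ∀ s : 𝔐.primeCompl, IsUnit (algebraMap (V ⊗[Ai] Si) M s) := fun s => isUnit_iff_ne_zero.2 (by
    rw [Ne, ← RingHom.mem_ker, Ideal.ker_algebraMap_residueField]
    exact fun h => s.2 (h𝔭𝔐 h))
  let g : Localization.AtPrime 𝔐 →+* M := IsLocalization.lift (M := 𝔐.primeCompl) hu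
  obtain ⟨W, hle, hloc⟩ := (LocalSubring.range g).exists_le_valuationSubring
  let π' := algebraMap (V ⊗[Ai] Si) M
  have hmem : ∀ t, π' t ∈ W := fun t => hle ⟨algebraMap _ _ t, IsLocalization.lift_eq _ t⟩
  have hlt : ∀ t ∈ 𝔐, W.valuation (π' t) < 1 := by
    intro t ht
    refine (ValuationSubring.valuation_lt_one_iff W ⟨π' t, hmem t⟩).1 fun hu' => ?_
    have h1 : IsUnit (⟨π' t, ⟨algebraMap _ _ t, IsLocalization.lift_eq _ t⟩⟩ : (LocalSubring.range g).toSubring) :=
      hloc.map_nonunit _ hu'
    obtain ⟨⟨_, ⟨w, rfl⟩⟩, hw⟩ := h1.exists_right_inv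
    have h2 : g (algebraMap _ _ t * w) = 1 := by
      rw [map_mul, show g (algebraMap _ _ t) = π' t from IsLocalization.lift_eq _ t]
      exact congrArg Subtype.val hw
    have h3 : algebraMap _ (Localization.AtPrime 𝔐) t ∈ maximalIdeal _ :=
      (IsLocalization.AtPrime.to_map_mem_maximal_iff (Localization.AtPrime 𝔐) 𝔐 t).2 ht
    have h4 : IsUnit (1 - algebraMap _ (Localization.AtPrime 𝔐) t * w) :=
      IsLocalRing.isUnit_one_sub_self_of_mem_nonunits _ (Ideal.mul_mem_right _ _ h3)
    have h5 := h4.map g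
    rw [map_sub, map_one, h2, sub_self] at h5
    exact not_isUnit_zero h5
  refine ⟨M, inferInstance, π'.comp (Algebra.TensorProduct.includeLeft : V →ₐ[Ai] V ⊗[Ai] Si).toRingHom,
    π'.comp (Algebra.TensorProduct.includeRight : Si →ₐ[Ai] V ⊗[Ai] Si).toRingHom, W, ?_, ?_, ?_, fun v => hmem _,
    fun x => hmem _, fun v hv => hlt _ ?_, fun x hx => hlt _ ?_⟩
  · refine RingHom.ext fun c => congrArg π' ?_
    exact ((Algebra.TensorProduct.includeLeft : V →ₐ[Ai] V ⊗[Ai] Si).commutes c).trans
      ((Algebra.TensorProduct.includeRight : Si →ₐ[Ai] V ⊗[Ai] Si).commutes c).symm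
  · rw [injective_iff_map_eq_zero]
    intro v hv
    by_contra h0
    have h : v ⊗ₜ[Ai] (1 : Si) ∈ 𝔭 := by rw [← Ideal.ker_algebraMap_residueField 𝔭]; exact hv
    exact Set.disjoint_left.1 hdisj h (hnzV v h0)
  · rw [injective_iff_map_eq_zero]
    intro x hx
    by_contra h0
    have h : (1 : V) ⊗ₜ[Ai] x ∈ 𝔭 := by rw [← Ideal.ker_algebraMap_residueField 𝔭]; exact hx
    exact Set.disjoint_left.1 hdisj h (hnzS x h0)
  · show ev (v ⊗ₜ[Ai] (1 : Si)) = 0
    rw [Algebra.TensorProduct.lift_tmul, map_one, mul_one]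
    show i₁ (residue V v) = 0
    rw [(residue_eq_zero_iff v).2 hv, map_zero]
  · show ev ((1 : V) ⊗ₜ[Ai] x) = 0
    rw [Algebra.TensorProduct.lift_tmul, map_one, one_mul]
    show i₂ (residue Si x) = 0
    rw [(residue_eq_zero_iff x).2 hx, map_zero]

/-- Exponents good after a base change preserving the uniformizer are good below. -/
theorem dvdAt_descend {A : Type u} [CommRing A] [IsDomain A] [IsNoetherianRing A] {r : ℕ} (f : Fin r → A)
    [∀ i, (Ideal.span {f i}).IsPrime] (hne : ∀ i, f i ≠ 0)
    {R : Type u} [CommRing R] [Algebra A R] [Algebra (Localization.Away (∏ i, f i)) R]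
    [IsScalarTower A (Localization.Away (∏ i, f i)) R]
    [Algebra.Etale (Localization.Away (∏ i, f i)) R] [Module.Finite (Localization.Away (∏ i, f i)) R]
    (S : Type u) [CommRing S] [IsDomain S] [IsNoetherianRing S] [Algebra A S]
    (hinj : Function.Injective (algebraMap A S)) (fS : Fin r → S) (hfS : ∀ i, fS i = algebraMap A S (f i))
    [∀ i, (Ideal.span {fS i}).IsPrime]
    [Algebra (Localization.Away (∏ i, fS i)) (S ⊗[A] R)] [IsScalarTower S (Localization.Away (∏ i, fS i)) (S ⊗[A] R)]
    [Algebra.Etale (Localization.Away (∏ i, fS i)) (S ⊗[A] R)] [Module.Finite (Localization.Away (∏ i, fS i)) (S ⊗[A] R)]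
    (i : Fin r) (hcomap : (Ideal.span {fS i}).comap (algebraMap A S) = Ideal.span {f i}) (m : ℕ)
    (hS : DvdAt (algebraMap S (S ⊗[A] R)) (Ideal.span {fS i}) m) :
    DvdAt (algebraMap A R) (Ideal.span {f i}) m := by
  classical
  intro q _ hq V hV
  have hneS : ∀ i, fS i ≠ 0 := fun j => by rw [hfS]; exact (map_ne_zero_iff _ hinj).2 (hne j)
  haveI := isDVR_span (hne i)
  haveI := isDVR_span (hneS i)
  haveI := isDVR_valuation f hne q hq i V hV
  let Ai := Localization.AtPrime (Ideal.span {f i})
  let Si := Localization.AtPrime (Ideal.span {fS i})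
  let K₁ := q.ResidueField
  letI : Algebra Ai V := (RingHom.codRestrict (SGA1.genericResidueMap (algebraMap A R) (Ideal.span {f i}) q hq) V hV.1).toAlgebra
  haveI : IsLocalHom (algebraMap Ai V) := ⟨fun a ha => by
    by_contra hna
    exact ((ValuationSubring.valuation_lt_one_iff V _).2 (hV.2 a hna)) ha⟩
  let lS : Ai →+* Si := Localization.localRingHom (Ideal.span {f i}) (Ideal.span {fS i}) (algebraMap A S) hcomap.symm
  letI : Algebra Ai Si := lS.toAlgebra
  haveI : IsLocalHom (algebraMap Ai Si) := Localization.isLocalHom_localRingHom _ _ _ _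
  have hlS : ∀ c, algebraMap Ai Si (algebraMap A Ai c) = algebraMap S Si (algebraMap A S c) := fun c =>
    Localization.localRingHom_to_map _ _ _ _ _
  have hAV : ∀ c, ((algebraMap Ai V (algebraMap A Ai c)) : K₁) = algebraMap A K₁ c := fun c => by
    show SGA1.genericResidueMap (algebraMap A R) (Ideal.span {f i}) q hq (algebraMap A Ai c) = _
    rw [genericResidueMap_algebraMap, ← IsScalarTower.algebraMap_apply]
  have hinjA : Function.Injective (algebraMap A K₁) := by
    rw [IsScalarTower.algebraMap_eq A R K₁, RingHom.injective_iff_ker_eq_bot, ← RingHom.comap_ker,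
      Ideal.ker_algebraMap_residueField]
    exact hq
  have hirr : Irreducible (algebraMap A Ai (f i)) := irreducible_span
  have hinjV : Function.Injective (algebraMap Ai V) := by
    rw [RingHom.injective_iff_ker_eq_bot]
    by_contra hk
    haveI : (RingHom.ker (algebraMap Ai V)).IsPrime := RingHom.ker_isPrime _
    have hmax := Ideal.IsPrime.isMaximal (inferInstance : (RingHom.ker (algebraMap Ai V)).IsPrime) hk
    have hm : algebraMap A Ai (f i) ∈ RingHom.ker (algebraMap Ai V) := by
      rw [IsLocalRing.eq_maximalIdeal hmax]; exact hirr.not_isUnit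
    have h0 := hAV (f i)
    rw [RingHom.mem_ker.1 hm] at h0
    exact hne i (hinjA (h0.symm.trans (map_zero (algebraMap A K₁)).symm))
  have hinjS : Function.Injective (algebraMap Ai Si) := by
    rw [RingHom.injective_iff_ker_eq_bot]
    by_contra hk
    haveI : (RingHom.ker (algebraMap Ai Si)).IsPrime := RingHom.ker_isPrime _
    have hmax := Ideal.IsPrime.isMaximal (inferInstance : (RingHom.ker (algebraMap Ai Si)).IsPrime) hk
    have hm : algebraMap A Ai (f i) ∈ RingHom.ker (algebraMap Ai Si) := by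
      rw [IsLocalRing.eq_maximalIdeal hmax]; exact hirr.not_isUnit
    rw [RingHom.mem_ker, hlS, ← hfS] at hm
    exact (irreducible_span (π := fS i)).ne_zero hm
  obtain ⟨M, _, a, b, W, hab, hainj, hbinj, haW, hbW, haW', hbW'⟩ := exists_common_place V Si hinjV hinjS
  let aK : K₁ →+* M := IsFractionRing.lift hainj
  have haK : ∀ v : V, aK v = a v := fun v => IsFractionRing.lift_algebraMap hainj v
  letI : Algebra A M := ((b.comp (algebraMap S Si)).comp (algebraMap A S)).toAlgebra
  have haA : ∀ c, aK (algebraMap A K₁ c) = algebraMap A M c := fun c => by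
    rw [← hAV c, haK]
    show a (algebraMap Ai V _) = b (algebraMap S Si (algebraMap A S c))
    rw [← hlS]
    exact RingHom.congr_fun hab _
  let eR : R →ₐ[A] M := { aK.comp (algebraMap R K₁) with
    commutes' := fun c => by
      show aK (algebraMap R K₁ (algebraMap A R c)) = _
      rw [← IsScalarTower.algebraMap_apply, haA] }
  let eS : S →ₐ[A] M := { b.comp (algebraMap S Si) with commutes' := fun c => rfl }
  let Φ : S ⊗[A] R →ₐ[A] M := Algebra.TensorProduct.lift eS eR fun _ _ => Commute.all _ _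
  let P : Ideal (S ⊗[A] R) := RingHom.ker Φ.toRingHom
  haveI : P.IsPrime := RingHom.ker_isPrime _
  have hΦS : ∀ s, Φ (algebraMap S (S ⊗[A] R) s) = b (algebraMap S Si s) := fun s => by
    show Φ (s ⊗ₜ[A] (1 : R)) = _
    rw [Algebra.TensorProduct.lift_tmul, map_one, mul_one]; rfl
  have hP : P.comap (algebraMap S (S ⊗[A] R)) = ⊥ := by
    refine eq_bot_iff.2 fun s hs => ?_
    have h : b (algebraMap S Si s) = b 0 := (hΦS s).symm.trans ((Ideal.mem_comap.1 hs).trans (map_zero b).symm)
    exact IsLocalization.injective Si (Ideal.span {fS i}).primeCompl_le_nonZeroDivisors ((hbinj h).trans (map_zero _).symm)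
  let ιP : (S ⊗[A] R) ⧸ P →+* M := Ideal.Quotient.lift P Φ.toRingHom fun x hx => hx
  have hιP : Function.Injective ιP := RingHom.lift_injective_of_ker_le_ideal P _ le_rfl
  let ι : P.ResidueField →+* M := IsFractionRing.lift hιP
  have hι : ∀ t, ι (algebraMap (S ⊗[A] R) P.ResidueField t) = Φ t := fun t =>
    IsFractionRing.lift_algebraMap hιP (Ideal.Quotient.mk P t)
  let φS := SGA1.genericResidueMap (algebraMap S (S ⊗[A] R)) (Ideal.span {fS i}) P hP
  have hιS : ι.comp φS = b := IsLocalization.ringHom_ext (Ideal.span {fS i}).primeCompl (RingHom.ext fun s => by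
    show ι (φS (algebraMap S Si s)) = b (algebraMap S Si s)
    rw [genericResidueMap_algebraMap, hι, hΦS])
  let W' : ValuationSubring P.ResidueField := W.comap ι
  have hlt : ∀ z : W', W.valuation (ι z) < 1 → z ∈ maximalIdeal W' := by
    intro z hz hu
    obtain ⟨w, hw⟩ := hu.exists_right_inv
    refine ((ValuationSubring.valuation_lt_one_iff W ⟨ι z, z.2⟩).2 hz) (IsUnit.of_mul_eq_one (⟨ι w, w.2⟩ : W) ?_)
    refine Subtype.ext ?_
    show ι z * ι w = 1
    rw [← map_mul, show (z : P.ResidueField) * w = 1 from congrArg Subtype.val hw, map_one]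
  have hmemS : ∀ x, φS x ∈ W' := fun x => by
    show ι (φS x) ∈ W
    rw [show ι (φS x) = b x from RingHom.congr_fun hιS x]
    exact hbW x
  have hdomS : EtRam.Dominates Si φS W' := by
    refine ⟨hmemS, fun x hx => (ValuationSubring.valuation_lt_one_iff W' ⟨φS x, hmemS x⟩).1 (hlt _ ?_)⟩
    show W.valuation (ι (φS x)) < 1
    rw [show ι (φS x) = b x from RingHom.congr_fun hιS x]
    exact hbW' x hx
  haveI := isDVR_valuation fS hneS P hP i W' hdomS
  letI : Algebra Si W' := (RingHom.codRestrict φS W' hdomS.1).toAlgebra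
  haveI : IsLocalHom (algebraMap Si W') := ⟨fun x hx => by
    by_contra hnx
    exact ((ValuationSubring.valuation_lt_one_iff W' _).2 (hdomS.2 x hnx)) hx⟩
  have hdvd : Ideal.ramificationIdx' (maximalIdeal Si) (maximalIdeal W') ∣ m := hS P hP W' hdomS
  -- the map of valuation rings
  let ι₁ : K₁ →+* P.ResidueField :=
    Ideal.ResidueField.map q P (Algebra.TensorProduct.includeRight : R →ₐ[A] S ⊗[A] R).toRingHom (by
      ext x
      show x ∈ q ↔ Φ ((1 : S) ⊗ₜ[A] x) = 0
      rw [Algebra.TensorProduct.lift_tmul, map_one, one_mul]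
      show x ∈ q ↔ aK (algebraMap R K₁ x) = 0
      rw [← Ideal.algebraMap_residueField_eq_zero (I := q)]
      exact (map_eq_zero aK).symm)
  have hι₁ : ι.comp ι₁ = aK := Ideal.ResidueField.ringHom_ext (RingHom.ext fun x => by
    show ι (ι₁ (algebraMap R K₁ x)) = aK (algebraMap R K₁ x)
    rw [Ideal.ResidueField.map_algebraMap, hι]
    show Φ ((1 : S) ⊗ₜ[A] x) = _
    rw [Algebra.TensorProduct.lift_tmul, map_one, one_mul]; rfl)
  have hmemV : ∀ v : V, ι₁ v ∈ W' := fun v => by
    show ι (ι₁ v) ∈ W
    rw [show ι (ι₁ v) = a v from (RingHom.congr_fun hι₁ v).trans (haK v)]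
    exact haW v
  let c : V →+* W' := (ι₁.comp V.subtype).codRestrict W'.toSubring hmemV
  have hcmax : ∀ v ∈ maximalIdeal V, c v ∈ maximalIdeal W' := fun v hv => hlt _ (by
    show W.valuation (ι (ι₁ v)) < 1
    rw [show ι (ι₁ v) = a v from (RingHom.congr_fun hι₁ v).trans (haK v)]
    exact haW' v hv)
  have hcinj : Function.Injective c := fun v w h => by
    exact Subtype.ext (ι₁.injective (congrArg Subtype.val h))
  have hcA : c (algebraMap Ai V (algebraMap A Ai (f i))) = algebraMap Si W' (algebraMap S Si (fS i)) := by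
    refine Subtype.ext (ι.injective ?_)
    show ι (ι₁ ((algebraMap Ai V (algebraMap A Ai (f i))) : K₁)) = ι (φS (algebraMap S Si (fS i)))
    rw [show ι (φS (algebraMap S Si (fS i))) = b (algebraMap S Si (fS i)) from RingHom.congr_fun hιS _,
      show ι (ι₁ ((algebraMap Ai V (algebraMap A Ai (f i))) : K₁)) = a (algebraMap Ai V (algebraMap A Ai (f i))) from
        (RingHom.congr_fun hι₁ _).trans (haK _),
      show a (algebraMap Ai V (algebraMap A Ai (f i))) = b (algebraMap Ai Si (algebraMap A Ai (f i))) from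
        RingHom.congr_fun hab _, hlS]
    exact congrArg b (congrArg (algebraMap S Si) (hfS i).symm)
  have hinjW : Function.Injective (algebraMap Si W') := fun x y h => hbinj (by
    rw [← RingHom.congr_fun hιS x, ← RingHom.congr_fun hιS y]
    exact congrArg ι (congrArg Subtype.val h))
  obtain ⟨ϖ, hϖ⟩ := IsDiscreteValuationRing.exists_irreducible V
  obtain ⟨ϖ', hϖ'⟩ := IsDiscreteValuationRing.exists_irreducible W'
  obtain ⟨u, hu, -⟩ := WeakUnram.exists_eq_unit_mul_pow hinjV hirr hϖ
  obtain ⟨w, hw, -⟩ := WeakUnram.exists_eq_unit_mul_pow hinjW (irreducible_span (π := fS i)) hϖ'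
  obtain ⟨k, v, hv⟩ := IsDiscreteValuationRing.eq_unit_mul_pow_irreducible
    ((map_ne_zero_iff _ hcinj).2 hϖ.ne_zero) hϖ'
  refine dvd_trans ?_ hdvd
  set e := Ideal.ramificationIdx' (maximalIdeal Ai) (maximalIdeal V)
  set E := Ideal.ramificationIdx' (maximalIdeal Si) (maximalIdeal W')
  have h1 := congrArg c hu
  rw [map_mul, map_pow, hcA, hv, mul_pow, ← pow_mul, ← mul_assoc, hw] at h1
  have h2 : ((w : W'ˣ) : W') * ϖ' ^ E = ((Units.map c.toMonoidHom u * v ^ e : W'ˣ) : W') * ϖ' ^ (k * e) := by
    rw [Units.val_mul, Units.val_pow_eq_pow_val]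
    exact h1
  exact ⟨k, by rw [mul_comm e k]; exact IsDiscreteValuationRing.unit_mul_pow_congr_pow hϖ' hϖ' _ _ _ _ h2⟩

end Groth.Agent.AbhyankarAbs
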