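import Groth.Agent.AbhyankarAbs.Component
import Groth.Agent.KummerRegLib.Basic

/-! After a Kummer base change a tame cover extends to an étale cover. -/

set_option autoImplicit false
universe u

namespace Groth.Agent.AbhyankarAbs
open IsLocalRing TensorProduct

theorem glue_components {A' : Type u} [CommRing A'] [IsDomain A'] [IsIntegrallyClosed A'] [IsNoetherianRing A']
    (F' : A') (hF' : F' ≠ 0) (T : Type u) [CommRing T] [Algebra A' T] [Algebra (Localization.Away F') T]
    [IsScalarTower A' (Localization.Away F') T] [Algebra.Etale (Localization.Away F') T]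
    [Module.Finite (Localization.Away F') T]
    (hB : ∀ (P : Ideal T) [P.IsPrime], P.comap (algebraMap A' T) = ⊥ →
      Algebra.Etale A' (integralClosure A' P.ResidueField) ∧ Module.Finite A' (integralClosure A' P.ResidueField)) :
    ∃ (B : Type u) (_ : CommRing B) (_ : Algebra A' B), Algebra.Etale A' B ∧ Module.Finite A' B ∧
      ∃ σ : B →ₐ[A'] T, @IsLocalization.Away _ _ (algebraMap A' B F') T _ σ.toRingHom.toAlgebra := by
  classical
  let A'F := Localization.Away F'
  have hle' : Submonoid.powers F' ≤ nonZeroDivisors A' := powers_le_nonZeroDivisors_of_noZeroDivisors hF'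
  haveI : IsDomain A'F := IsLocalization.isDomain_of_le_nonZeroDivisors A'F hle'
  haveI : IsIntegrallyClosed A'F := isIntegrallyClosed_of_isLocalization A'F (Submonoid.powers F') hle'
  haveI : IsNoetherianRing A'F := IsLocalization.isNoetherianRing (Submonoid.powers F') A'F inferInstance
  have hFT : ∀ s : Submonoid.powers F', IsUnit (algebraMap A' T s) := fun s => by
    rw [IsScalarTower.algebraMap_apply A' A'F T]
    exact (IsLocalization.map_units A'F s).map _
  haveI : IsNoetherianRing T := IsNoetherianRing.of_finite A'F T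
  -- components
  let P := {P : Ideal T // P ∈ minimalPrimes T}
  haveI : Finite P := (minimalPrimes.finite_of_isNoetherianRing T).to_subtype
  haveI hPp : ∀ P : P, P.1.IsPrime := fun P => P.2.1.1
  have hPbot : ∀ P : P, P.1.comap (algebraMap A' T) = ⊥ := fun P => by
    rw [IsScalarTower.algebraMap_eq A' A'F T, ← Ideal.comap_comap,
      EtNormalLib.comap_eq_bot_of_minimalPrimes (A := A'F) P.2]
    exact Ideal.comap_bot_of_injective _ (IsLocalization.injective A'F hle')
  let B : P → Type u := fun P => integralClosure A' P.1.ResidueField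
  haveI : Fintype P := Fintype.ofFinite P
  haveI : ∀ P, Algebra.Etale A' (B P) := fun P => (hB P.1 (hPbot P)).1
  haveI : ∀ P, Module.Finite A' (B P) := fun P => (hB P.1 (hPbot P)).2
  refine ⟨∀ P, B P, inferInstance, inferInstance, inferInstance, inferInstance, ?_⟩
  -- gluing the components
  let Θ : T →+* ∀ P : P, P.1.ResidueField := Pi.ringHom fun P => algebraMap T P.1.ResidueField
  have hred : IsReduced T := EtNormalLib.isReduced (B := T) A'F
  have hΘ : Function.Injective Θ := by
    rw [injective_iff_map_eq_zero]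
    intro t ht
    have h : t ∈ sInf (minimalPrimes T) := Submodule.mem_sInf.2 fun Q hQ => by
      haveI := hQ.1.1
      rw [← Ideal.ker_algebraMap_residueField Q]
      exact congrFun ht ⟨Q, hQ⟩
    rw [show sInf (minimalPrimes T) = (⊥ : Ideal T).radical from Ideal.sInf_minimalPrimes] at h
    obtain ⟨k, hk⟩ := h
    exact IsNilpotent.eq_zero ⟨k, (Submodule.mem_bot T).1 hk⟩
  have hcop : Pairwise (fun a b : P => IsCoprime a.1 b.1) := fun a b hPQ => by
    show IsCoprime a.1 b.1
    rw [Ideal.isCoprime_iff_sup_eq]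
    by_contra h
    obtain ⟨m, hm', hle⟩ := Ideal.exists_le_maximal _ h
    exact hPQ (Subtype.ext (EtNormalLib.eq_of_minimalPrimes_le A'F a.2 b.2 (le_sup_left.trans hle) (le_sup_right.trans hle)))
  have hrange : ∀ b : (∀ P, B P), ∃ t : T, ∀ P : P, algebraMap T P.1.ResidueField t = (b P).1 := by
    intro b
    have hmem : ∀ P : P, ∃ t : T, algebraMap T P.1.ResidueField t = (b P).1 := fun P => by
      have hinjF : Function.Injective (algebraMap A'F P.1.ResidueField) := by
        rw [IsScalarTower.algebraMap_eq A'F T P.1.ResidueField, RingHom.injective_iff_ker_eq_bot, ← RingHom.comap_ker,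
          Ideal.ker_algebraMap_residueField]
        exact EtNormalLib.comap_eq_bot_of_minimalPrimes (A := A'F) P.2
      obtain ⟨u, v, hv, h⟩ := residueField_fractions P.1 (b P).1
      obtain ⟨t, ht⟩ := EtNormalLib.mem_range_of_isIntegral hinjF (IsScalarTower.toAlgHom A'F T P.1.ResidueField)
        (b P).1 ((b P).2.tower_top) ⟨u, v, hv, h⟩
      exact ⟨t, ht⟩
    choose t ht using hmem
    obtain ⟨y, hy⟩ := Ideal.exists_forall_sub_mem_ideal hcop t
    refine ⟨y, fun P => ?_⟩
    rw [← ht P, ← sub_eq_zero, ← map_sub, ← RingHom.mem_ker, Ideal.ker_algebraMap_residueField]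
    exact hy P
  choose σ₀ hσ₀ using hrange
  let σ : (∀ P, B P) →ₐ[A'] T :=
    { toFun := σ₀
      map_one' := hΘ (funext fun P => by
        show algebraMap T P.1.ResidueField (σ₀ 1) = algebraMap T P.1.ResidueField 1
        rw [hσ₀, map_one]; rfl)
      map_mul' := fun x y => hΘ (funext fun P => by
        show algebraMap T P.1.ResidueField (σ₀ (x * y)) = algebraMap T P.1.ResidueField (σ₀ x * σ₀ y)
        rw [map_mul, hσ₀, hσ₀, hσ₀]; rfl)
      map_zero' := hΘ (funext fun P => by
        show algebraMap T P.1.ResidueField (σ₀ 0) = algebraMap T P.1.ResidueField 0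
        rw [hσ₀, map_zero]; rfl)
      map_add' := fun x y => hΘ (funext fun P => by
        show algebraMap T P.1.ResidueField (σ₀ (x + y)) = algebraMap T P.1.ResidueField (σ₀ x + σ₀ y)
        rw [map_add, hσ₀, hσ₀, hσ₀]; rfl)
      commutes' := fun a => hΘ (funext fun P => by
        show algebraMap T P.1.ResidueField (σ₀ _) = algebraMap T P.1.ResidueField (algebraMap A' T a)
        rw [hσ₀, ← IsScalarTower.algebraMap_apply A' T P.1.ResidueField]; rfl) }
  have hσ : ∀ b P, algebraMap T P.1.ResidueField (σ b) = (b P).1 := hσ₀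
  refine ⟨σ, ?_⟩
  letI : Algebra (∀ P, B P) T := σ.toRingHom.toAlgebra
  constructor
  constructor
  · rintro ⟨_, k, rfl⟩
    show IsUnit (σ (algebraMap A' (∀ P, B P) F' ^ k))
    rw [map_pow, σ.commutes, ← map_pow]
    exact hFT ⟨F' ^ k, k, rfl⟩
  · intro t
    have hint : ∀ P : P, ∃ k, IsIntegral A' (F' ^ k • algebraMap T P.1.ResidueField t) := fun P => by
      obtain ⟨⟨_, k, rfl⟩, hk⟩ := IsIntegral.exists_multiple_integral_of_isLocalization (Submonoid.powers F') (Rₘ := A'F)
        (algebraMap T P.1.ResidueField t) ((Algebra.IsIntegral.isIntegral (R := A'F) t).map (IsScalarTower.toAlgHom A'F T _))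
      exact ⟨k, hk⟩
    choose k hk using hint
    let N := ∑ P, k P
    have hN : ∀ P : P, IsIntegral A' (F' ^ N • algebraMap T P.1.ResidueField t) := fun P => by
      rw [show N = (N - k P) + k P from (Nat.sub_add_cancel (Finset.single_le_sum (fun _ _ => Nat.zero_le _) (Finset.mem_univ P))).symm,
        pow_add, mul_smul, Algebra.smul_def]
      exact isIntegral_algebraMap.mul (hk P)
    refine ⟨⟨fun P => ⟨_, hN P⟩, ⟨_, N, rfl⟩⟩, hΘ (funext fun P => ?_)⟩
    show algebraMap T P.1.ResidueField (t * σ (algebraMap A' (∀ P, B P) F' ^ N)) = algebraMap T P.1.ResidueField (σ _)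
    rw [map_mul, map_pow, σ.commutes, map_pow, ← IsScalarTower.algebraMap_apply, hσ]
    show _ = F' ^ N • algebraMap T P.1.ResidueField t
    rw [Algebra.smul_def, map_pow]
    exact mul_comm _ _
  · intro x y hxy
    refine ⟨1, ?_⟩
    have h : ∀ P, (x P).1 = (y P).1 := fun P => by rw [← hσ x P, ← hσ y P]; exact congrArg _ hxy
    rw [show x = y from funext fun P => Subtype.ext (h P)]


theorem etale_extension_aux {A : Type u} [CommRing A] [IsDomain A] [IsNoetherianRing A] [IsIntegrallyClosed A] {r : ℕ}
    (f : Fin r → A) [∀ i, (Ideal.span {f i}).IsPrime] (hne : ∀ i, f i ≠ 0)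
    (R : Type u) [CommRing R] [Algebra A R] [Algebra (Localization.Away (∏ i, f i)) R]
    [IsScalarTower A (Localization.Away (∏ i, f i)) R]
    [Algebra.Etale (Localization.Away (∏ i, f i)) R] [Module.Finite (Localization.Away (∏ i, f i)) R]
    (htame : SGA1.IsTameAlong f (algebraMap A R)) (A' : Type u) [CommRing A'] [IsRegularLocalRing A'] [IsDomain A']
    [IsIntegrallyClosed A'] [Algebra A A'] [Module.Finite A A'] (hinjA' : Function.Injective (algebraMap A A'))
    (n : Fin r → ℕ) (x : Fin r → A') (hx : ∀ i, x i ^ n i = algebraMap A A' (f i))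
    (hdvd : ∀ i, DvdAt (algebraMap A R) (Ideal.span {f i}) (n i)) :
    ∃ (B : Type u) (_ : CommRing B) (_ : Algebra A' B), Algebra.Etale A' B ∧ Module.Finite A' B ∧
      ∃ σ : B →ₐ[A'] A' ⊗[A] R,
        @IsLocalization.Away _ _ (algebraMap A' B (algebraMap A A' (∏ i, f i))) (A' ⊗[A] R) _ σ.toRingHom.toAlgebra := by
  classical
  let F := ∏ i, f i
  have hF0 : F ≠ 0 := Finset.prod_ne_zero_iff.2 fun i _ => hne i
  let F' := algebraMap A A' F
  have hF' : F' ≠ 0 := (map_ne_zero_iff _ hinjA').2 hF0
  obtain ⟨algT, _⟩ := exists_algebra_tensor F R A'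
  letI := algT
  haveI := etale_tensor F R A'
  haveI := finite_tensor F R A'
  refine glue_components F' hF' (A' ⊗[A] R) ?_
  intro P _ hbot
  let BP := integralClosure A' P.ResidueField
  obtain ⟨_, hfin, _⟩ := component_basic f hne A' hinjA' P hbot
  haveI : FaithfulSMul A' BP := (faithfulSMul_iff_algebraMap_injective A' BP).2 fun a b h => by
    have h1 : algebraMap A' P.ResidueField a = algebraMap A' P.ResidueField b := congrArg Subtype.val h
    rw [IsScalarTower.algebraMap_apply A' (A' ⊗[A] R) P.ResidueField, IsScalarTower.algebraMap_apply A' (A' ⊗[A] R) P.ResidueField,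
      ← sub_eq_zero, ← map_sub, ← map_sub, ← RingHom.mem_ker, Ideal.ker_algebraMap_residueField, ← Ideal.mem_comap, hbot,
      Ideal.mem_bot, sub_eq_zero] at h1
    exact h1
  haveI : IsNoetherianRing BP := IsNoetherianRing.of_finite A' BP
  refine ⟨PurityLib.etale_of_unramified_codim_one fun Q _ hQ => ?_, hfin⟩
  exact component_unramifiedAt f hne htame A' hinjA' P hbot n x hx Q (height_eq_under (A := A') Q ▸ hQ) (fun i _ => hdvd i)


theorem etale_extension (A : Type u) [CommRing A] [IsRegularLocalRing A] [IsDomain A] (r : ℕ) (f : Fin r → A)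
    (hm : ∀ i, f i ∈ maximalIdeal A)
    (hf : LinearIndependent (ResidueField A) (fun i => (maximalIdeal A).toCotangent ⟨f i, hm i⟩))
    [∀ i, (Ideal.span {f i}).IsPrime]
    (R : Type u) [CommRing R] [Algebra A R] [Algebra (Localization.Away (∏ i, f i)) R]
    [IsScalarTower A (Localization.Away (∏ i, f i)) R]
    [Algebra.Etale (Localization.Away (∏ i, f i)) R] [Module.Finite (Localization.Away (∏ i, f i)) R]
    (htame : SGA1.IsTameAlong f (algebraMap A R)) (n : Fin r → ℕ) (hn : ∀ i, 1 ≤ n i)
    (hdvd : ∀ i, DvdAt (algebraMap A R) (Ideal.span {f i}) (n i)) :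
    ∃ (B : Type u) (_ : CommRing B) (_ : Algebra (SGA1.kummerAlg A f n) B),
      Algebra.Etale (SGA1.kummerAlg A f n) B ∧ Module.Finite (SGA1.kummerAlg A f n) B ∧
      ∃ σ : B →ₐ[SGA1.kummerAlg A f n] SGA1.kummerAlg A f n ⊗[A] R,
        @IsLocalization.Away _ _ (algebraMap (SGA1.kummerAlg A f n) B (algebraMap A _ (∏ i, f i)))
          (SGA1.kummerAlg A f n ⊗[A] R) _ σ.toRingHom.toAlgebra := by
  have hne : ∀ i, f i ≠ 0 := fun i h0 => hf.ne_zero i (by
    show (maximalIdeal A).toCotangent ⟨f i, hm i⟩ = 0
    rw [show (⟨f i, hm i⟩ : maximalIdeal A) = 0 from Subtype.ext h0, map_zero])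
  haveI hAreg : IsRegularLocalRing (SGA1.kummerAlg A f n) := KummerRegLib.isRegularLocalRing f n hm hf hn
  obtain ⟨hA'dom, hA'ic⟩ := PurityLib.isIntegrallyClosed_of_regular (SGA1.kummerAlg A f n)
  haveI := hA'dom
  haveI := hA'ic
  haveI : Module.Finite A (SGA1.kummerAlg A f n) := KummerRegLib.module_finite f n hn
  haveI : IsIntegrallyClosed A := (PurityLib.isIntegrallyClosed_of_regular A).2
  exact etale_extension_aux f hne R htame (SGA1.kummerAlg A f n) (KummerRegLib.algebraMap_injective f n hn) n
    (KummerRegLib.T f n) (KummerRegLib.T_pow f n) hdvd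

end Groth.Agent.AbhyankarAbs
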