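import Mathlib

/-! An unramified extension with purely inseparable fibre at one prime is trivial there. -/

set_option autoImplicit false
universe u

namespace Groth.Agent.AbhyankarAbs
open IsLocalRing

theorem exists_mul_mem_range {R S : Type u} [CommRing R] [CommRing S] [Algebra R S] [Module.Finite R S]
    [FaithfulSMul R S] (𝔭 : Ideal R) [𝔭.IsPrime] (p : ℕ) (hp : p.Prime) (hpP : (p : R) ∈ 𝔭) (N : ℕ)
    (hpow : ∀ x : S, ∃ (a : R) (z : S), x ^ p ^ N = algebraMap R S a + (p : S) * z)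
    (hunr : ∀ (Q : Ideal S) [Q.IsPrime], Q.under R = 𝔭 → Algebra.IsUnramifiedAt R Q) :
    ∃ s ∉ 𝔭, ∀ x : S, algebraMap R S s * x ∈ Set.range (algebraMap R S) := by
  classical
  obtain ⟨⟨Q, hQp, hQl⟩⟩ := Ideal.nonempty_primesOver (S := S) 𝔭
  haveI := hQp
  haveI := hQl
  have hpJ : (p : S) ∈ 𝔭.map (algebraMap R S) := by
    rw [← map_natCast (algebraMap R S)]; exact Ideal.mem_map_of_mem _ hpP
  have hJQ : 𝔭.map (algebraMap R S) ≤ Q := Ideal.map_le_iff_le_comap.2 (Ideal.over_def Q 𝔭).le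
  haveI := hunr Q hQl.over.symm
  haveI : CharP 𝔭.ResidueField p := (CharP.charP_iff_prime_eq_zero hp).2 (by
    rw [← map_natCast (algebraMap R 𝔭.ResidueField), ← RingHom.mem_ker, Ideal.ker_algebraMap_residueField]
    exact hpP)
  haveI : ExpChar 𝔭.ResidueField p := ExpChar.prime hp
  letI := Localization.AtPrime.algebraOfLiesOver 𝔭 Q
  obtain ⟨hsep, hmap⟩ := (Algebra.isUnramifiedAt_iff_map_eq R 𝔭 Q).1 (hunr Q hQl.over.symm)
  haveI := hsep
  have hS : ∀ x : S, (algebraMap S Q.ResidueField x) ^ p ^ N ∈ (algebraMap 𝔭.ResidueField Q.ResidueField).range := by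
    intro x
    obtain ⟨a, z, h⟩ := hpow x
    refine ⟨algebraMap R 𝔭.ResidueField a, ?_⟩
    have hz : algebraMap S Q.ResidueField ((p : S) * z) = 0 := by
      rw [← RingHom.mem_ker, Ideal.ker_algebraMap_residueField]
      exact Ideal.mul_mem_right _ _ (hJQ hpJ)
    rw [← map_pow, h, map_add, hz, add_zero, ← IsScalarTower.algebraMap_apply,
      ← IsScalarTower.algebraMap_apply R S Q.ResidueField]
  haveI : IsPurelyInseparable 𝔭.ResidueField Q.ResidueField := by
    refine (isPurelyInseparable_iff_pow_mem 𝔭.ResidueField p).2 fun y => ⟨N, ?_⟩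
    obtain ⟨u', v', hv, rfl⟩ := IsFractionRing.div_surjective (S ⧸ Q) y
    obtain ⟨u', rfl⟩ := Ideal.Quotient.mk_surjective u'
    obtain ⟨v', rfl⟩ := Ideal.Quotient.mk_surjective v'
    rw [div_pow]
    obtain ⟨a, ha⟩ := hS u'
    obtain ⟨b, hb⟩ := hS v'
    exact ⟨a / b, by rw [map_div₀, ha, hb]; rfl⟩
  have hres := IsPurelyInseparable.surjective_algebraMap_of_isSeparable 𝔭.ResidueField Q.ResidueField
  let J := 𝔭.map (algebraMap R S)
  have key : ∀ x : S, ∃ s ∉ 𝔭, ∃ a : R, algebraMap R S s * x - algebraMap R S a ∈ J := by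
    intro x
    obtain ⟨y, hy⟩ := hres (algebraMap S Q.ResidueField x)
    obtain ⟨a', s', hs', rfl⟩ := IsFractionRing.div_surjective (R ⧸ 𝔭) y
    obtain ⟨a, rfl⟩ := Ideal.Quotient.mk_surjective a'
    obtain ⟨s, rfl⟩ := Ideal.Quotient.mk_surjective s'
    have hs : s ∉ 𝔭 := fun h => nonZeroDivisors.ne_zero hs' (Ideal.Quotient.eq_zero_iff_mem.2 h)
    have hs0 : algebraMap R 𝔭.ResidueField s ≠ 0 := by
      rwa [Ne, ← RingHom.mem_ker, Ideal.ker_algebraMap_residueField]
    have hx0 : algebraMap R S s * x - algebraMap R S a ∈ Q := by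
      rw [← Ideal.ker_algebraMap_residueField Q, RingHom.mem_ker, map_sub, map_mul, sub_eq_zero, ← hy,
        ← IsScalarTower.algebraMap_apply R S Q.ResidueField, ← IsScalarTower.algebraMap_apply R S Q.ResidueField,
        IsScalarTower.algebraMap_apply R 𝔭.ResidueField Q.ResidueField,
        IsScalarTower.algebraMap_apply R 𝔭.ResidueField Q.ResidueField, ← map_mul]
      congr 1
      rw [show algebraMap (R ⧸ 𝔭) 𝔭.ResidueField (Ideal.Quotient.mk 𝔭 a) = algebraMap R 𝔭.ResidueField a from rfl,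
        show algebraMap (R ⧸ 𝔭) 𝔭.ResidueField (Ideal.Quotient.mk 𝔭 s) = algebraMap R 𝔭.ResidueField s from rfl,
        mul_div_cancel₀ _ hs0]
    have h1 : algebraMap S (Localization.AtPrime Q) (algebraMap R S s * x - algebraMap R S a) ∈
        J.map (algebraMap S (Localization.AtPrime Q)) := by
      rw [Ideal.map_map, ← IsScalarTower.algebraMap_eq, hmap, ← Localization.AtPrime.map_eq_maximalIdeal]
      exact Ideal.mem_map_of_mem _ hx0
    obtain ⟨⟨⟨j, hj⟩, ⟨t', ht'⟩⟩, hjt⟩ := (IsLocalization.mem_map_algebraMap_iff Q.primeCompl _).1 h1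
    rw [← map_mul, IsLocalization.eq_iff_exists Q.primeCompl] at hjt
    obtain ⟨⟨c, hc⟩, hjc⟩ := hjt
    let t := c * t'
    have ht : t ∉ Q := fun h => (hQp.mem_or_mem h).elim hc ht'
    have htx : t * (algebraMap R S s * x - algebraMap R S a) ∈ J := by
      have : t * (algebraMap R S s * x - algebraMap R S a) = c * j := by
        rw [← hjc]; show c * t' * _ = c * (_ * t'); ring
      rw [this]
      exact Ideal.mul_mem_left _ _ hj
    obtain ⟨b, z, hb⟩ := hpow t
    have hb𝔭 : b ∉ 𝔭 := fun h => ht (hQp.mem_of_pow_mem (p ^ N) (by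
      rw [hb]; exact add_mem (hJQ (Ideal.mem_map_of_mem _ h)) (Ideal.mul_mem_right _ _ (hJQ hpJ))))
    refine ⟨b * s, fun h => ((inferInstance : 𝔭.IsPrime).mem_or_mem h).elim hb𝔭 hs, b * a, ?_⟩
    rw [map_mul, map_mul, mul_assoc, ← mul_sub]
    obtain ⟨m, hm⟩ : ∃ m, p ^ N = m + 1 := ⟨p ^ N - 1, (Nat.sub_add_cancel (Nat.one_le_pow _ _ hp.pos)).symm⟩
    rw [show algebraMap R S b = t ^ m * t - (p : S) * z by rw [← pow_succ, ← hm, hb]; ring, sub_mul]
    refine sub_mem ?_ (Ideal.mul_mem_right _ _ (Ideal.mul_mem_right _ _ hpJ))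
    rw [mul_assoc]
    exact Ideal.mul_mem_left _ _ htx
  obtain ⟨G, hG⟩ := Module.Finite.fg_top (R := R) (M := S)
  choose s hs a ha using key
  let s₀ := ∏ g ∈ G, s g
  have hs₀ : s₀ ∉ 𝔭 := fun h => by
    obtain ⟨g, -, hg⟩ := (inferInstance : 𝔭.IsPrime).prod_mem_iff.1 h
    exact hs g hg
  let r := LinearMap.range (Algebra.linearMap R S)
  have hall : ∀ x : S, algebraMap R S s₀ * x ∈ r ⊔ 𝔭 • (⊤ : Submodule R S) := by
    intro x
    have hx : x ∈ Submodule.span R (G : Set S) := hG ▸ Submodule.mem_top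
    induction hx using Submodule.span_induction with
    | mem g hg =>
      have hd : s g ∣ s₀ := Finset.dvd_prod_of_mem s (Finset.mem_coe.1 hg)
      obtain ⟨w, hw⟩ := hd
      rw [hw, map_mul, mul_comm (algebraMap R S (s g)), mul_assoc, ← Algebra.smul_def]
      refine Submodule.smul_mem _ _ (Submodule.mem_sup.2 ⟨algebraMap R S (a g), ⟨a g, rfl⟩, _, ?_, add_sub_cancel _ _⟩)
      rw [Ideal.smul_top_eq_map]
      exact ha g
    | zero => rw [mul_zero]; exact Submodule.zero_mem _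
    | add y z _ _ hy hz => rw [mul_add]; exact Submodule.add_mem _ hy hz
    | smul c y _ hy => rw [mul_smul_comm]; exact Submodule.smul_mem _ c hy
  let M := S ⧸ r
  let f : Module.End R M := LinearMap.lsmul R M s₀
  have hI : LinearMap.range f ≤ 𝔭 • ⊤ := by
    rintro _ ⟨m, rfl⟩
    obtain ⟨x, rfl⟩ := r.mkQ_surjective m
    obtain ⟨y, hy, z, hz, hyz⟩ := Submodule.mem_sup.1 (hall x)
    show s₀ • r.mkQ x ∈ 𝔭 • (⊤ : Submodule R M)
    rw [← map_smul, Algebra.smul_def, ← hyz, map_add, show r.mkQ y = 0 from (Submodule.Quotient.mk_eq_zero r).2 hy, zero_add]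
    have := Submodule.mem_map_of_mem (f := r.mkQ) hz
    rw [Submodule.map_smul''] at this
    exact Submodule.smul_mono le_rfl le_top this
  obtain ⟨g, hgm, -, hgc, hg0⟩ := LinearMap.exists_monic_and_natDegree_eq_and_coeff_mem_pow_and_aeval_eq_zero R (f := f) (I := 𝔭) hI
  refine ⟨g.eval s₀, fun h => hs₀ ((inferInstance : 𝔭.IsPrime).mem_of_pow_mem g.natDegree ?_), fun x => ?_⟩
  · rw [Polynomial.eval_eq_sum_range, Finset.sum_range_succ, hgm.coeff_natDegree, one_mul] at h
    refine (Ideal.add_mem_iff_right _ (Ideal.sum_mem _ fun k hk => ?_)).1 h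
    exact Ideal.mul_mem_right _ _ (Ideal.pow_le_self (Nat.sub_ne_zero_of_lt (Finset.mem_range.1 hk)) (hgc k))
  · have h1 : Polynomial.aeval f g = algebraMap R (Module.End R M) (g.eval s₀) :=
      Polynomial.aeval_algebraMap_apply_eq_algebraMap_eval s₀ g
    rw [h1] at hg0
    have h2 : g.eval s₀ • r.mkQ x = 0 := by
      have := LinearMap.congr_fun hg0 (r.mkQ x)
      simpa using this
    rw [← map_smul, Algebra.smul_def] at h2
    exact (Submodule.Quotient.mk_eq_zero r).1 h2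

end Groth.Agent.AbhyankarAbs
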