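import Groth.Agent.WeakUnram.TameAt
import Groth.Agent.PurityLib.Global
import Groth.Agent.EtNormalLib.Basic

/-! The absolute Abhyankar lemma for one component: extension by purity of the branch locus. -/

set_option autoImplicit false
universe u

namespace Groth.Agent.WeakUnram
open IsLocalRing TensorProduct

/-- A tame extension becomes unramified when all its indices divide the index of the base change. -/
theorem unramified_baseChange_of_dvd (A B K L : Type u) [CommRing A] [IsDomain A] [IsDiscreteValuationRing A]
    [CommRing B] [IsDomain B] [IsDiscreteValuationRing B] [Algebra A B] [IsLocalHom (algebraMap A B)]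
    [Field K] [Field L] [Algebra A K] [IsFractionRing A K] [Algebra B L] [IsFractionRing B L]
    [Algebra K L] [Algebra A L] [IsScalarTower A K L] [IsScalarTower A B L]
    (K₁ : Type u) [Field K₁] [Algebra K K₁] [FiniteDimensional K K₁] [Algebra.IsSeparable K K₁]
    (M : Type u) [Field M] [Algebra K M] [Algebra L M] [Algebra K₁ M] [IsScalarTower K L M] [IsScalarTower K K₁ M]
    (hgen : Algebra.adjoin L (Set.range (algebraMap K₁ M)) = ⊤)
    (h : EtRam.IsTamelyRamified A ((algebraMap K K₁).comp (algebraMap A K)))
    (hdvd : ∀ (V : ValuationSubring K₁) (hV : EtRam.Dominates A ((algebraMap K K₁).comp (algebraMap A K)) V),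
      letI : Algebra A V := (RingHom.codRestrict ((algebraMap K K₁).comp (algebraMap A K)) V hV.1).toAlgebra
      Ideal.ramificationIdx' (maximalIdeal A) (maximalIdeal V) ∣
        Ideal.ramificationIdx' (maximalIdeal A) (maximalIdeal B)) :
    EtRam.IsUnramifiedExt B ((algebraMap L M).comp (algebraMap B L)) := by
  intro W hW
  letI : Algebra B W := (RingHom.codRestrict ((algebraMap L M).comp (algebraMap B L)) W hW.1).toAlgebra
  intro hloc
  obtain ⟨hsep, hV, he⟩ := tame_at A B K L K₁ M hgen W hW h
  refine ⟨?_, hsep⟩
  letI : Algebra A (W.comap (algebraMap K₁ M)) :=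
    (RingHom.codRestrict ((algebraMap K K₁).comp (algebraMap A K)) (W.comap (algebraMap K₁ M)) hV.1).toAlgebra
  haveI : IsLocalHom (algebraMap A (W.comap (algebraMap K₁ M))) := ⟨fun a ha => by
    by_contra hna
    exact ((ValuationSubring.valuation_lt_one_iff _ _).2 (hV.2 a hna)) ha⟩
  haveI := finite_of_generated K L K₁ M hgen
  refine (weak_iff_at (K := L) _ rfl W hW).2 (he.trans ?_)
  rw [Nat.gcd_eq_right (hdvd _ hV)]
  letI : Algebra A K₁ := ((algebraMap K K₁).comp (algebraMap A K)).toAlgebra
  haveI : IsScalarTower A K K₁ := IsScalarTower.of_algebraMap_eq' rfl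
  haveI := (dvr_of_dominates (A := A) (K := K) (W.comap (algebraMap K₁ M)) hV).1
  obtain ⟨π, hπ⟩ := IsDiscreteValuationRing.exists_irreducible A
  obtain ⟨ϖ, hϖ⟩ := IsDiscreteValuationRing.exists_irreducible (W.comap (algebraMap K₁ M))
  obtain ⟨-, -, he₁⟩ := exists_eq_unit_mul_pow (A := A) (V := W.comap (algebraMap K₁ M))
    (fun x y hxy => IsFractionRing.injective A K ((algebraMap K K₁).injective (congrArg Subtype.val hxy))) hπ hϖ
  exact Nat.div_self he₁

end Groth.Agent.WeakUnram

namespace Groth.Agent.AbhyankarAbs
open IsLocalRing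

/-- Contraction preserves heights in a finite extension of a normal domain. -/
theorem height_eq_under {A B : Type u} [CommRing A] [IsDomain A] [IsIntegrallyClosed A] [IsNoetherianRing A]
    [CommRing B] [IsDomain B] [IsNoetherianRing B] [Algebra A B] [FaithfulSMul A B] [Algebra.IsIntegral A B]
    (P : Ideal B) [P.IsPrime] : P.height = (P.under A).height := by
  haveI : P.LiesOver (P.under A) := ⟨rfl⟩
  exact le_antisymm (PurityLib.height_le_under P)
    ((Ideal.height_eq_height_add_of_liesOver_of_hasGoingDown (P.under A) P).ge.trans' le_self_add)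

/-- A height one prime of a normal Noetherian domain gives a discrete valuation ring. -/
theorem isDVR_of_height_one {A : Type u} [CommRing A] [IsDomain A] [IsNoetherianRing A] [IsIntegrallyClosed A]
    (p : Ideal A) [p.IsPrime] (hp : p.height = 1) : IsDiscreteValuationRing (Localization.AtPrime p) := by
  let Rp := Localization.AtPrime p
  haveI : IsIntegrallyClosed Rp :=
    isIntegrallyClosed_of_isLocalization Rp p.primeCompl p.primeCompl_le_nonZeroDivisors
  have h1 : ringKrullDim Rp = 1 := by
    rw [IsLocalization.AtPrime.ringKrullDim_eq_height p Rp, hp, WithBot.coe_one]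
  obtain ⟨hf, hrad⟩ := ringKrullDim_eq_one_iff_of_isLocalRing_isDomain.1 h1
  have htfae := (IsDiscreteValuationRing.TFAE Rp hf).out 0 3
  refine htfae.2 ⟨inferInstance, maximalIdeal Rp,
    ⟨fun h => hf (isField_iff_maximalIdeal_eq.2 h), (maximalIdeal.isMaximal Rp).isPrime⟩, fun P ⟨hP0, hP⟩ => ?_⟩
  obtain ⟨x, hxP, hx0⟩ := P.ne_bot_iff.1 hP0
  exact le_antisymm (le_maximalIdeal hP.ne_top)
    ((hrad x hx0).trans (hP.radical_le_iff.2 ((Ideal.span_singleton_le_iff_mem P).2 hxP)))

/-- The valuation ring of a DVR in its fraction field. -/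
theorem exists_valuationSubring {B L : Type u} [CommRing B] [IsDomain B] [IsDiscreteValuationRing B] [Field L]
    [Algebra B L] [IsFractionRing B L] :
    ∃ V : ValuationSubring L, ∀ x : L, x ∈ V ↔ x ∈ Set.range (algebraMap B L) := by
  refine ⟨{ (algebraMap B L).range with mem_or_inv_mem' := fun x => ?_ }, fun x => Iff.rfl⟩
  rcases ValuationRing.isInteger_or_isInteger B x with ⟨y, hy⟩ | ⟨y, hy⟩
  · exact Or.inl ⟨y, hy⟩
  · exact Or.inr ⟨y, hy⟩

/-- An unramified place is an unramified point. -/
theorem isUnramifiedAt_of_unramifiedExt {R B L : Type u} [CommRing R] [CommRing B] [IsDomain B] [Algebra R B]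
    [Algebra.EssFiniteType R B] [Field L] [Algebra B L] [IsFractionRing B L] (Q : Ideal B) [Q.IsPrime]
    [IsDiscreteValuationRing (Localization.AtPrime Q)] (p : Ideal R) [p.IsPrime] [Q.LiesOver p]
    [Algebra (Localization.AtPrime p) L]
    (hcomp : (algebraMap (Localization.AtPrime p) L).comp (algebraMap R (Localization.AtPrime p)) =
      (algebraMap B L).comp (algebraMap R B))
    (h : EtRam.IsUnramifiedExt (Localization.AtPrime p) (algebraMap (Localization.AtPrime p) L)) :
    Algebra.IsUnramifiedAt R Q := by
  classical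
  let Bq := Localization.AtPrime Q
  let Ap := Localization.AtPrime p
  letI := Localization.AtPrime.algebraOfLiesOver p Q
  have hu : ∀ s : Q.primeCompl, IsUnit (algebraMap B L s) := fun s =>
    isUnit_iff_ne_zero.2 ((map_ne_zero_iff _ (IsFractionRing.injective B L)).2 fun h => s.2 (h ▸ Q.zero_mem))
  letI : Algebra Bq L := (IsLocalization.lift (M := Q.primeCompl) hu).toAlgebra
  haveI : IsScalarTower B Bq L := IsScalarTower.of_algebraMap_eq fun b =>
    (IsLocalization.lift_eq (M := Q.primeCompl) hu b).symm
  haveI : IsFractionRing Bq L := IsFractionRing.isFractionRing_of_isDomain_of_isLocalization Q.primeCompl Bq L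
  haveI : IsScalarTower R Ap Bq := IsScalarTower.of_algebraMap_eq fun r => by
    rw [Localization.AtPrime.IsLiesOverAlgebra.algebraMap_eq, Localization.localRingHom_to_map,
      ← IsScalarTower.algebraMap_apply]
  haveI : IsLocalHom (algebraMap Ap Bq) := by
    rw [Localization.AtPrime.IsLiesOverAlgebra.algebraMap_eq]
    exact Localization.isLocalHom_localRingHom p Q (algebraMap R B) Ideal.LiesOver.over
  have htri : (algebraMap Bq L).comp (algebraMap Ap Bq) = algebraMap Ap L :=
    IsLocalization.ringHom_ext p.primeCompl (by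
      rw [RingHom.comp_assoc, ← IsScalarTower.algebraMap_eq R Ap Bq, hcomp, IsScalarTower.algebraMap_eq R B Bq,
        ← RingHom.comp_assoc, ← IsScalarTower.algebraMap_eq B Bq L])
  obtain ⟨V, hV⟩ := exists_valuationSubring (B := Bq) (L := L)
  have hmem : ∀ x : Bq, algebraMap Bq L x ∈ V := fun x => (hV _).2 ⟨x, rfl⟩
  let ι : Bq →+* V := (algebraMap Bq L).codRestrict V hmem
  have hι : Function.Bijective ι := ⟨fun x y hxy => IsFractionRing.injective Bq L (congrArg Subtype.val hxy),
    fun v => by
      obtain ⟨x, hx⟩ := (hV _).1 v.2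
      exact ⟨x, Subtype.ext hx⟩⟩
  haveI : IsLocalHom ι := ⟨fun x hx => by
    have h := hx.map (RingEquiv.ofBijective ι hι).symm.toRingHom
    rwa [show (RingEquiv.ofBijective ι hι).symm.toRingHom (ι x) = x from
      (RingEquiv.ofBijective ι hι).symm_apply_apply x] at h⟩
  have hdom : EtRam.Dominates Ap (algebraMap Ap L) V := by
    refine ⟨fun a => by rw [← htri]; exact hmem _, fun a ha => ?_⟩
    have h1 : ι (algebraMap Ap Bq a) ∈ maximalIdeal V :=
      map_nonunit ι _ (map_nonunit (algebraMap Ap Bq) a ha)
    rw [ValuationSubring.valuation_lt_one_iff] at h1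
    rw [← htri]; exact h1
  letI : Algebra Ap V := (RingHom.codRestrict (algebraMap Ap L) V hdom.1).toAlgebra
  have hιA : ι.comp (algebraMap Ap Bq) = algebraMap Ap V :=
    RingHom.ext fun a => Subtype.ext (RingHom.congr_fun htri a)
  haveI : IsLocalHom (algebraMap Ap V) := hιA ▸ RingHom.isLocalHom_comp ι (algebraMap Ap Bq)
  obtain ⟨hw, hsep⟩ := h V hdom
  haveI := hsep
  haveI : Algebra.EssFiniteType R Bq := Algebra.EssFiniteType.comp R B Bq
  haveI : Algebra.EssFiniteType Ap Bq := Algebra.EssFiniteType.of_comp R Ap Bq
  haveI hsep' : Algebra.IsSeparable (ResidueField Ap) (ResidueField Bq) := by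
    letI : Algebra (ResidueField Bq) (ResidueField V) := (ResidueField.map ι).toAlgebra
    haveI : IsScalarTower (ResidueField Ap) (ResidueField Bq) (ResidueField V) := IsScalarTower.of_algebraMap_eq fun x => by
      obtain ⟨x, rfl⟩ := residue_surjective x
      exact congrArg (residue V) (RingHom.congr_fun hιA x).symm
    exact Algebra.isSeparable_tower_bot_of_isSeparable _ (ResidueField Bq) (ResidueField V)
  have hmap : (maximalIdeal Ap).map (algebraMap Ap Bq) = maximalIdeal Bq := by
    have hmι : (maximalIdeal Bq).map ι = maximalIdeal V := by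
      haveI : ((maximalIdeal Bq).map ι).IsMaximal := (Ideal.isMaximal_map_iff_of_bijective ι hι).2 inferInstance
      exact eq_maximalIdeal inferInstance
    refine le_antisymm (Ideal.map_le_iff_le_comap.2 fun a ha => map_nonunit (algebraMap Ap Bq) a ha) fun x hx => ?_
    have h2 : ι x ∈ ((maximalIdeal Ap).map (algebraMap Ap Bq)).map ι := by
      rw [Ideal.map_map, hιA, hw, ← hmι]; exact Ideal.mem_map_of_mem ι hx
    obtain ⟨y, hy, hxy⟩ := (Ideal.mem_map_iff_of_surjective ι hι.2).1 h2
    exact hι.1 hxy ▸ hy
  haveI : Algebra.FormallyUnramified Ap Bq := Algebra.FormallyUnramified.of_map_maximalIdeal hmap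
  haveI : Algebra.FormallyUnramified R Ap := Algebra.FormallyUnramified.of_isLocalization (Rₘ := Ap) p.primeCompl
  show Algebra.FormallyUnramified R Bq
  exact Algebra.FormallyUnramified.comp R Ap Bq

/-- Over the locus where the cover is étale, the integral closure in a component is unramified. -/
theorem isUnramifiedAt_away {R B L S : Type u} [CommRing R] [IsDomain R] [IsIntegrallyClosed R] [CommRing B]
    [Algebra R B] [Field L] [Algebra R L] [Algebra B L] [IsScalarTower R B L]
    [IsIntegralClosure B R L] (hinj : Function.Injective (algebraMap R L)) (F : R) (hF : F ≠ 0)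
    [CommRing S] [Algebra (Localization.Away F) S] [Algebra R S] [IsScalarTower R (Localization.Away F) S]
    [Algebra.Etale (Localization.Away F) S] [Module.Finite (Localization.Away F) S]
    (φ : S →ₐ[R] L) (hfr : ∀ x : L, ∃ u v : S, φ v ≠ 0 ∧ x * φ v = φ u)
    (Q : Ideal B) [Q.IsPrime] (hQ : algebraMap R B F ∉ Q) : Algebra.IsUnramifiedAt R Q := by
  classical
  let RF := Localization.Away F
  have hle : Submonoid.powers F ≤ nonZeroDivisors R := powers_le_nonZeroDivisors_of_noZeroDivisors hF
  haveI : IsDomain RF := IsLocalization.isDomain_of_le_nonZeroDivisors RF hle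
  haveI : IsIntegrallyClosed RF := isIntegrallyClosed_of_isLocalization RF (Submonoid.powers F) hle
  have hu : ∀ s : Submonoid.powers F, IsUnit (algebraMap R L s) := fun s =>
    isUnit_iff_ne_zero.2 ((map_ne_zero_iff _ hinj).2 (nonZeroDivisors.ne_zero (hle s.2)))
  letI : Algebra RF L := (IsLocalization.lift (M := Submonoid.powers F) hu).toAlgebra
  have hRF : ∀ r, algebraMap RF L (algebraMap R RF r) = algebraMap R L r := fun r => IsLocalization.lift_eq _ r
  haveI : IsScalarTower R RF L := IsScalarTower.of_algebraMap_eq fun r => (hRF r).symm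
  have hinjF : Function.Injective (algebraMap RF L) := by
    rw [injective_iff_map_eq_zero]
    intro x hx
    obtain ⟨r, s, rfl⟩ := IsLocalization.exists_mk'_eq (Submonoid.powers F) x
    have h1 := congrArg (algebraMap RF L) (IsLocalization.mk'_spec RF r s)
    rw [map_mul, hx, zero_mul, hRF] at h1
    rw [IsLocalization.mk'_eq_zero_iff]
    exact ⟨1, by rw [hinj (h1.symm.trans (map_zero _).symm)]; simp⟩
  let φF : S →ₐ[RF] L :=
    { φ.toRingHom with
      commutes' := fun x => RingHom.congr_fun (IsLocalization.ringHom_ext (Submonoid.powers F)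
        (j := φ.toRingHom.comp (algebraMap RF S)) (k := algebraMap RF L) (RingHom.ext fun r => by
          show φ (algebraMap RF S (algebraMap R RF r)) = algebraMap RF L (algebraMap R RF r)
          rw [← IsScalarTower.algebraMap_apply, φ.commutes, hRF])) x }
  let T := φF.range
  haveI : Algebra.Etale RF T := EtNormalLib.etale_range hinjF φF
  have hBT : ∀ b : B, algebraMap B L b ∈ T := fun b => by
    obtain ⟨u, v, hv, h⟩ := hfr (algebraMap B L b)
    exact EtNormalLib.mem_range_of_isIntegral hinjF φF _
      (((IsIntegralClosure.isIntegral R L b).map (IsScalarTower.toAlgHom R B L)).tower_top) ⟨u, v, hv, h⟩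
  let j : B →+* T := (algebraMap B L).codRestrict T hBT
  letI : Algebra B T := j.toAlgebra
  have hBinj : Function.Injective (algebraMap B L) := IsIntegralClosure.algebraMap_injective B R L
  haveI : IsScalarTower R B T := IsScalarTower.of_algebraMap_eq fun r =>
    Subtype.ext (IsScalarTower.algebraMap_apply R B L r)
  have hTint : ∀ t : T, IsIntegral RF (t : L) := fun t => by
    obtain ⟨s, hs⟩ := t.2
    rw [← hs]
    exact (Algebra.IsIntegral.isIntegral (R := RF) s).map φF
  haveI : IsLocalization.Away (algebraMap R B F) T := by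
    constructor
    constructor
    · rintro ⟨_, n, rfl⟩
      show IsUnit (j (algebraMap R B F ^ n))
      rw [map_pow, show j (algebraMap R B F) = algebraMap RF T (algebraMap R RF F) from Subtype.ext (by
        show algebraMap B L (algebraMap R B F) = algebraMap RF L (algebraMap R RF F)
        rw [hRF, ← IsScalarTower.algebraMap_apply])]
      exact ((IsLocalization.Away.algebraMap_isUnit F).map _).pow n
    · intro t
      obtain ⟨⟨_, n, rfl⟩, hm⟩ := IsIntegral.exists_multiple_integral_of_isLocalization (Submonoid.powers F) (Rₘ := RF) (t : L) (hTint t)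
      obtain ⟨b, hb⟩ := (IsIntegralClosure.isIntegral_iff (A := B) (R := R) (B := L)).1 hm
      refine ⟨⟨b, ⟨_, n, rfl⟩⟩, Subtype.ext ?_⟩
      show (t : L) * algebraMap B L (algebraMap R B F ^ n) = algebraMap B L b
      rw [hb, map_pow, ← IsScalarTower.algebraMap_apply, mul_comm, Submonoid.smul_def, Algebra.smul_def, map_pow]
    · intro x y hxy
      exact ⟨1, by rw [hBinj (congrArg Subtype.val hxy)]⟩
  have hdisj : Disjoint (Submonoid.powers (algebraMap R B F) : Set B) Q := Set.disjoint_left.2 (by
    rintro _ ⟨n, rfl⟩ h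
    exact hQ ((inferInstance : Q.IsPrime).mem_of_pow_mem n h))
  let Q' := Q.map (algebraMap B T)
  haveI : Q'.IsPrime := IsLocalization.isPrime_of_isPrime_disjoint (Submonoid.powers (algebraMap R B F)) T Q inferInstance hdisj
  haveI : Algebra.FormallyUnramified R RF := Algebra.FormallyUnramified.of_isLocalization (Rₘ := RF) (Submonoid.powers F)
  haveI : IsScalarTower R RF T := IsScalarTower.of_algebraMap_eq fun r => Subtype.ext (hRF r).symm
  haveI : Algebra.FormallyUnramified R T := Algebra.FormallyUnramified.comp R RF T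
  let Tq := Localization.AtPrime Q'
  haveI : Algebra.FormallyUnramified T Tq := Algebra.FormallyUnramified.of_isLocalization (Rₘ := Tq) Q'.primeCompl
  haveI : Algebra.FormallyUnramified R Tq := Algebra.FormallyUnramified.comp R T Tq
  haveI : IsLocalization.AtPrime Tq Q := by
    have h1 : IsLocalization.AtPrime Tq (Q'.comap (algebraMap B T)) :=
      IsLocalization.isLocalization_isLocalization_atPrime_isLocalization (Submonoid.powers (algebraMap R B F)) Tq Q'
    exact atPrime_congr (P := Q'.comap (algebraMap B T)) (A := Tq)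
      (IsLocalization.under_map_of_isPrime_disjoint (Submonoid.powers (algebraMap R B F)) T inferInstance hdisj) h1
  show Algebra.FormallyUnramified R (Localization.AtPrime Q)
  let e : Tq ≃ₐ[R] Localization.AtPrime Q := (IsLocalization.algEquiv Q.primeCompl Tq (Localization.AtPrime Q)).restrictScalars R
  exact Algebra.FormallyUnramified.of_equiv (A := Tq) e
where
  atPrime_congr {B A : Type u} [CommRing B] [CommRing A] [Algebra B A] {P Q : Ideal B} [P.IsPrime] [Q.IsPrime]
      (h : P = Q) (hP : IsLocalization.AtPrime A P) : IsLocalization.AtPrime A Q := by subst h; exact hP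

/-- Absolute Abhyankar, one component: the integral closure is étale. -/
theorem etale_integralClosure {R B L : Type u} [CommRing R] [IsRegularLocalRing R] [IsDomain R] [IsIntegrallyClosed R]
    [CommRing B] [IsDomain B] [IsIntegrallyClosed B] [Algebra R B] [Module.Finite R B] [FaithfulSMul R B]
    [Field L] [Algebra B L] [IsFractionRing B L] (F : R)
    (haway : ∀ (Q : Ideal B) [Q.IsPrime], algebraMap R B F ∉ Q → Algebra.IsUnramifiedAt R Q)
    (hdiv : ∀ (Q : Ideal B) [Q.IsPrime], algebraMap R B F ∈ Q → Q.height = 1 →
      ∀ (p : Ideal R) [p.IsPrime] [Q.LiesOver p] [IsDiscreteValuationRing (Localization.AtPrime p)]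
        [Algebra (Localization.AtPrime p) L],
        (algebraMap (Localization.AtPrime p) L).comp (algebraMap R (Localization.AtPrime p)) =
          (algebraMap B L).comp (algebraMap R B) →
        EtRam.IsUnramifiedExt (Localization.AtPrime p) (algebraMap (Localization.AtPrime p) L))
    (hF0 : F ≠ 0) : Algebra.Etale R B := by
  classical
  haveI : IsNoetherianRing B := IsNoetherianRing.of_finite R B
  refine PurityLib.etale_of_unramified_codim_one fun Q hQp hQ => ?_
  by_cases hFQ : algebraMap R B F ∈ Q
  swap
  · exact haway Q hFQ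
  have hQ0 : Q.height ≠ 0 := fun h0 => by
    rw [Ideal.height_eq_zero_iff_eq_bot.1 h0, Ideal.mem_bot, map_eq_zero_iff _ (FaithfulSMul.algebraMap_injective R B)] at hFQ
    exact hF0 hFQ
  have hQ1 : Q.height = 1 := le_antisymm hQ (Order.one_le_iff_pos.2 (pos_iff_ne_zero.2 hQ0))
  let p := Q.under R
  haveI : Q.LiesOver p := ⟨rfl⟩
  haveI : IsDiscreteValuationRing (Localization.AtPrime Q) := isDVR_of_height_one Q hQ1
  haveI : IsDiscreteValuationRing (Localization.AtPrime p) := isDVR_of_height_one p ((height_eq_under (A := R) Q).symm.trans hQ1)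
  have hu : ∀ s : p.primeCompl, IsUnit ((algebraMap B L).comp (algebraMap R B) s) := fun s =>
    isUnit_iff_ne_zero.2 (fun h => s.2 (by
      rw [RingHom.comp_apply, map_eq_zero_iff _ (IsFractionRing.injective B L),
        map_eq_zero_iff _ (FaithfulSMul.algebraMap_injective R B)] at h
      rw [h]; exact p.zero_mem))
  letI : Algebra (Localization.AtPrime p) L := (IsLocalization.lift (M := p.primeCompl) hu).toAlgebra
  have hcomp : (algebraMap (Localization.AtPrime p) L).comp (algebraMap R (Localization.AtPrime p)) =
      (algebraMap B L).comp (algebraMap R B) := RingHom.ext fun r => IsLocalization.lift_eq _ r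
  exact isUnramifiedAt_of_unramifiedExt Q p hcomp (hdiv Q hFQ hQ1 p hcomp)

end Groth.Agent.AbhyankarAbs
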