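import Groth.Agent.AbhyankarAbs.StrictMain

/-! Tame indices over a strictly henselian regular base are prime to the residue characteristic. -/

set_option autoImplicit false
universe u

namespace Groth.Agent.AbhyankarAbs
open IsLocalRing TensorProduct

theorem natCast_prime_split {k : Type u} [Field k] (p a m : ℕ) (h : (((p ^ a * m : ℕ)) : k) ≠ 0) (hp : (p : k) = 0) :
    a = 0 := by
  by_contra ha
  exact h (by rw [Nat.cast_mul, Nat.cast_pow, hp, zero_pow ha, zero_mul])

theorem isDVR_valuation {A : Type u} [CommRing A] [IsDomain A] [IsNoetherianRing A] {r : ℕ} (f : Fin r → A)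
    [∀ i, (Ideal.span {f i}).IsPrime] (hne : ∀ i, f i ≠ 0)
    {R : Type u} [CommRing R] [Algebra A R] [Algebra (Localization.Away (∏ i, f i)) R]
    [IsScalarTower A (Localization.Away (∏ i, f i)) R]
    [Algebra.Etale (Localization.Away (∏ i, f i)) R] [Module.Finite (Localization.Away (∏ i, f i)) R]
    (q : Ideal R) [q.IsPrime] (hq : q.comap (algebraMap A R) = ⊥) (i : Fin r) (V : ValuationSubring q.ResidueField)
    (hV : EtRam.Dominates (Localization.AtPrime (Ideal.span {f i}))
      (SGA1.genericResidueMap (algebraMap A R) (Ideal.span {f i}) q hq) V) : IsDiscreteValuationRing V := by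
  let Ai := Localization.AtPrime (Ideal.span {f i})
  let K := FractionRing A
  let K₁ := q.ResidueField
  haveI := isDVR_span (hne i)
  have hinjK : Function.Injective (algebraMap A K₁) := by
    rw [IsScalarTower.algebraMap_eq A R K₁, RingHom.injective_iff_ker_eq_bot, ← RingHom.comap_ker,
      Ideal.ker_algebraMap_residueField]
    exact hq
  letI : Algebra K K₁ := (IsFractionRing.lift hinjK).toAlgebra
  haveI : IsScalarTower A K K₁ := IsScalarTower.of_algebraMap_eq fun a => (IsFractionRing.lift_algebraMap hinjK a).symm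
  obtain ⟨_, -⟩ := separable_finite_of_etale (∏ i, f i) (Finset.prod_ne_zero_iff.2 fun i _ => hne i) K
    (IsScalarTower.toAlgHom A R K₁) (residueField_fractions q)
  have hu : ∀ s : (Ideal.span {f i}).primeCompl, IsUnit (algebraMap A K s) := fun s =>
    isUnit_iff_ne_zero.2 ((map_ne_zero_iff _ (IsFractionRing.injective A K)).2 fun h => s.2 (h ▸ Ideal.zero_mem _))
  letI : Algebra Ai K := (IsLocalization.lift (M := (Ideal.span {f i}).primeCompl) hu).toAlgebra
  haveI : IsScalarTower A Ai K := IsScalarTower.of_algebraMap_eq fun a =>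
    (IsLocalization.lift_eq (M := (Ideal.span {f i}).primeCompl) hu a).symm
  haveI : IsFractionRing Ai K :=
    IsFractionRing.isFractionRing_of_isDomain_of_isLocalization (Ideal.span {f i}).primeCompl Ai K
  have hgen : SGA1.genericResidueMap (algebraMap A R) (Ideal.span {f i}) q hq = (algebraMap K K₁).comp (algebraMap Ai K) :=
    IsLocalization.ringHom_ext (Ideal.span {f i}).primeCompl (RingHom.ext fun a => by
      show SGA1.genericResidueMap (algebraMap A R) _ q hq (algebraMap A Ai a) =
        algebraMap K K₁ (algebraMap Ai K (algebraMap A Ai a))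
      rw [← IsScalarTower.algebraMap_apply A Ai K, ← IsScalarTower.algebraMap_apply A K K₁,
        IsScalarTower.algebraMap_apply A R K₁, genericResidueMap_algebraMap])
  letI : Algebra Ai K₁ := ((algebraMap K K₁).comp (algebraMap Ai K)).toAlgebra
  haveI : IsScalarTower Ai K K₁ := IsScalarTower.of_algebraMap_eq' rfl
  exact (WeakUnram.dvr_of_dominates (A := Ai) (K := K) V (show EtRam.Dominates Ai ((algebraMap K K₁).comp (algebraMap Ai K)) V
    from hgen ▸ hV)).1

theorem dvdAt_primePart (A : Type u) [CommRing A] [IsRegularLocalRing A] [IsDomain A] [HenselianLocalRing A]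
    [IsSepClosed (ResidueField A)] (r : ℕ) (f : Fin r → A) (hm : ∀ i, f i ∈ maximalIdeal A)
    (hf : LinearIndependent (ResidueField A) (fun i => (maximalIdeal A).toCotangent ⟨f i, hm i⟩))
    [∀ i, (Ideal.span {f i}).IsPrime]
    {R : Type u} [CommRing R] [Algebra A R] [Algebra (Localization.Away (∏ i, f i)) R]
    [IsScalarTower A (Localization.Away (∏ i, f i)) R]
    [Algebra.Etale (Localization.Away (∏ i, f i)) R] [Module.Finite (Localization.Away (∏ i, f i)) R]
    (htame : SGA1.IsTameAlong f (algebraMap A R)) (n a n' : Fin r → ℕ) (hn' : ∀ i, 1 ≤ n' i) (p : ℕ) (hp : p.Prime)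
    (hpk : (p : ResidueField A) = 0) (hsplit : ∀ i, n i = p ^ a i * n' i)
    (hnz : ∀ i, ((n i : ℕ) : ResidueField (Localization.AtPrime (Ideal.span {f i}))) ≠ 0)
    (hdvd : ∀ i, DvdAt (algebraMap A R) (Ideal.span {f i}) (n i)) :
    ∀ i, DvdAt (algebraMap A R) (Ideal.span {f i}) (n' i) := by
  classical
  intro i
  by_cases hpA : (p : A) = 0
  · have h0 : a i = 0 := natCast_prime_split (k := ResidueField (Localization.AtPrime (Ideal.span {f i}))) p (a i) (n' i)
      (hsplit i ▸ hnz i) (by
        rw [← map_natCast (algebraMap A (ResidueField (Localization.AtPrime (Ideal.span {f i})))), hpA, map_zero])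
    have h1 : n i = n' i := by rw [hsplit i, h0, pow_zero, one_mul]
    exact h1 ▸ hdvd i
  have hne : ∀ i, f i ≠ 0 := fun i h0 => hf.ne_zero i (by
    show (maximalIdeal A).toCotangent ⟨f i, hm i⟩ = 0
    rw [show (⟨f i, hm i⟩ : maximalIdeal A) = 0 from Subtype.ext h0, map_zero])
  haveI hAic : IsIntegrallyClosed A := (PurityLib.isIntegrallyClosed_of_regular A).2
  have hn : ∀ i, 1 ≤ n i := fun i => by
    rw [hsplit i]; exact Nat.one_le_iff_ne_zero.2 (Nat.mul_ne_zero (pow_ne_zero _ hp.ne_zero) (by have := hn' i; omega))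
  let A'' := SGA1.kummerAlg A f n'
  let A' := SGA1.kummerAlg A f n
  haveI hA''reg : IsRegularLocalRing A'' := KummerRegLib.isRegularLocalRing f n' hm hf hn'
  haveI hA'reg : IsRegularLocalRing A' := KummerRegLib.isRegularLocalRing f n hm hf hn
  obtain ⟨hd'', hi''⟩ := PurityLib.isIntegrallyClosed_of_regular A''
  haveI := hd''
  haveI := hi''
  obtain ⟨hd', hi'⟩ := PurityLib.isIntegrallyClosed_of_regular A'
  haveI := hd'
  haveI := hi'
  haveI : Module.Finite A A'' := KummerRegLib.module_finite f n' hn'
  haveI : Module.Finite A A' := KummerRegLib.module_finite f n hn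
  have hinj'' : Function.Injective (algebraMap A A'') := KummerRegLib.algebraMap_injective f n' hn'
  have hinj' : Function.Injective (algebraMap A A') := KummerRegLib.algebraMap_injective f n hn
  haveI : FaithfulSMul A A'' := (faithfulSMul_iff_algebraMap_injective A A'').2 hinj''
  haveI : IsSepClosed (ResidueField A') := isSepClosed_kummer f n hn hm
  -- the map between the two Kummer algebras
  let θ : A'' →ₐ[A] A' :=
    Ideal.Quotient.liftₐ _ (MvPolynomial.aeval fun j => KummerRegLib.T f n j ^ p ^ a j) fun z hz => by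
      induction hz using Submodule.span_induction with
      | mem y hy =>
        obtain ⟨j, rfl⟩ := hy
        rw [map_sub, map_pow, MvPolynomial.aeval_X, MvPolynomial.aeval_C, ← pow_mul, ← hsplit j, KummerRegLib.T_pow, sub_self]
      | zero => simp
      | add y z _ _ hy hz => rw [map_add, hy, hz, add_zero]
      | smul c y _ hy => rw [smul_eq_mul, map_mul, hy, mul_zero]
  let N := ∑ j, a j
  have hθ : ∀ y : A', ∃ (b : A'') (z : A'), y ^ p ^ N = θ b + (p : A') * z := by
    refine pow_mem_mod θ p hp N _ (KummerRegLib.adjoin_T f n) ?_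
    rintro _ ⟨j, rfl⟩
    have hj : a j ≤ N := Finset.single_le_sum (fun _ _ => Nat.zero_le _) (Finset.mem_univ j)
    refine ⟨KummerRegLib.T f n' j ^ p ^ (N - a j), ?_⟩
    show θ _ = _
    rw [map_pow, show θ (KummerRegLib.T f n' j) = KummerRegLib.T f n j ^ p ^ a j from MvPolynomial.aeval_X _ j, ← pow_mul,
      ← pow_add, Nat.add_sub_cancel' hj]
  obtain ⟨B, _, _, hBet, hBfin, σ, hσ⟩ := etale_extension A r f hm hf R htame n hn hdvd
  haveI := hBet
  haveI := hBfin
  -- a height one prime over `p`
  have hp'' : (p : A'') ≠ 0 := fun h => hpA (hinj'' (by rw [map_natCast, h, map_zero]))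
  have hpnu : ¬ IsUnit (p : A'') := fun h => by
    have h1 : IsUnit (p : A) := by
      rw [← map_natCast (algebraMap A A'')] at h
      exact isUnit_of_map_unit (algebraMap A A'') _ h
    exact (h1.map (residue A)).ne_zero (by rw [map_natCast]; exact hpk)
  obtain ⟨M, hM, hMle⟩ := Ideal.exists_le_maximal (Ideal.span {(p : A'')}) (by
    rwa [Ne, Ideal.span_singleton_eq_top])
  haveI := hM.isPrime
  obtain ⟨𝔭, h𝔭, -⟩ := Ideal.exists_minimalPrimes_le hMle
  haveI : 𝔭.IsPrime := h𝔭.1.1
  have hp𝔭 : (p : A'') ∈ 𝔭 := h𝔭.1.2 (Ideal.mem_span_singleton_self _)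
  have h𝔭h : 𝔭.height ≤ 1 := Ideal.height_le_one_of_isPrincipal_of_mem_minimalPrimes _ 𝔭 h𝔭
  have hdvd' : ∀ j, algebraMap A A'' (f j) ∈ 𝔭 → DvdAt (algebraMap A R) (Ideal.span {f j}) (n' j) := by
    intro j hj
    have hu : 𝔭.comap (algebraMap A A'') = Ideal.span {f j} := by
      refine le_antisymm ?_ ((Ideal.span_singleton_le_iff_mem _).2 hj)
      by_contra hne'
      have hlt : Ideal.span {f j} < 𝔭.comap (algebraMap A A'') :=
        lt_of_le_of_ne ((Ideal.span_singleton_le_iff_mem _).2 hj) fun h => hne' h.ge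
      have h1 := Ideal.height_strict_mono_of_isPrime hlt
      rw [show 𝔭.comap (algebraMap A A'') = 𝔭.under A from rfl, ← height_eq_under (A := A) 𝔭] at h1
      have h2 := h1.trans_le h𝔭h
      rw [Order.lt_one_iff, Ideal.height_eq_zero_iff_eq_bot, Ideal.span_singleton_eq_bot] at h2
      exact hne j h2
    have hpj : ((p : ℕ) : ResidueField (Localization.AtPrime (Ideal.span {f j}))) = 0 := by
      have h3 : (p : A) ∈ Ideal.span {f j} := by rw [← hu, Ideal.mem_comap, map_natCast]; exact hp𝔭
      rw [← map_natCast (residue (Localization.AtPrime (Ideal.span {f j}))), residue_eq_zero_iff,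
        ← map_natCast (algebraMap A (Localization.AtPrime (Ideal.span {f j}))),
        IsLocalization.AtPrime.to_map_mem_maximal_iff _ (Ideal.span {f j})]
      exact h3
    have h0 := natCast_prime_split (k := ResidueField (Localization.AtPrime (Ideal.span {f j}))) p (a j) (n' j)
      (hsplit j ▸ hnz j) hpj
    have h1 : n j = n' j := by rw [hsplit j, h0, pow_zero, one_mul]
    exact h1 ▸ hdvd j
  intro q _ hq V hV
  obtain ⟨L, _, _, _, _, _, ⟨ι₁⟩⟩ := exists_embedding f hne htame A'' hinj'' n' (KummerRegLib.T f n')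
    (KummerRegLib.T_pow f n') A' hinj' θ p hp N hθ B σ hσ 𝔭 hp𝔭 h𝔭h hdvd' hpA q hq
  haveI := isPrime_span_T f n' hn' hm hf i
  refine dvd_of_embedding (f i) (hne i) q hq (KummerRegLib.T f n' i) (n' i) (hn' i) (KummerRegLib.T_pow f n' i) ι₁ V ?_ hV
  exact isDVR_valuation f hne q hq i V hV

end Groth.Agent.AbhyankarAbs
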