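import Groth.Agent.KummerRegLib.Basic
import Groth.Agent.RegLocal.Basic

/-! Parts of regular systems of parameters and their behaviour in Kummer algebras. -/

set_option autoImplicit false
universe u

namespace Groth.Agent.AbhyankarAbs
open IsLocalRing

variable {A : Type u} [CommRing A] {r : ℕ}

/-- `f i` is not in `m² + (f j, j ≠ i)`. -/
theorem notMem_of_linearIndependent [IsLocalRing A] (f : Fin r → A) (hm : ∀ i, f i ∈ maximalIdeal A)
    (hf : LinearIndependent (ResidueField A) (fun i => (maximalIdeal A).toCotangent ⟨f i, hm i⟩)) (i : Fin r) :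
    f i ∉ maximalIdeal A ^ 2 ⊔ Ideal.span (f '' {j | j ≠ i}) := by
  classical
  intro h
  obtain ⟨y, hy, z, hz, hyz⟩ := Submodule.mem_sup.1 h
  let v := fun i => (maximalIdeal A).toCotangent ⟨f i, hm i⟩
  have hle : Ideal.span (f '' {j | j ≠ i}) ≤ maximalIdeal A := Ideal.span_le.2 (by
    rintro _ ⟨j, -, rfl⟩; exact hm j)
  have key : ∀ w, (hw : w ∈ Ideal.span (f '' {j | j ≠ i})) →
      (maximalIdeal A).toCotangent ⟨w, hle hw⟩ ∈ Submodule.span (ResidueField A) (v '' {j | j ≠ i}) := by
    intro w hw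
    induction hw using Submodule.span_induction with
    | mem x hx => obtain ⟨j, hj, rfl⟩ := hx; exact Submodule.subset_span ⟨j, hj, rfl⟩
    | zero => exact (map_zero (maximalIdeal A).toCotangent).symm ▸ Submodule.zero_mem _
    | add a b ha hb iha ihb =>
      convert Submodule.add_mem _ iha ihb
      rw [← map_add]; rfl
    | smul c a ha iha =>
      convert Submodule.smul_mem _ (residue A c) iha
      exact map_smul (maximalIdeal A).toCotangent c ⟨a, hle ha⟩
  refine hf.notMem_span_image (s := {j | j ≠ i}) (x := i) (by simp) ?_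
  have hveq : v i = (maximalIdeal A).toCotangent ⟨z, hle hz⟩ := by
    rw [Ideal.toCotangent_eq]
    show f i - z ∈ maximalIdeal A ^ 2
    rwa [← hyz, add_sub_cancel_right]
  show v i ∈ _
  exact hveq ▸ key z hz

/-- Conversely, such elements give independent cotangent vectors. -/
theorem linearIndependent_of_notMem [IsLocalRing A] (f : Fin r → A) (hm : ∀ i, f i ∈ maximalIdeal A)
    (h : ∀ i, f i ∉ maximalIdeal A ^ 2 ⊔ Ideal.span (f '' {j | j ≠ i})) :
    LinearIndependent (ResidueField A) (fun i => (maximalIdeal A).toCotangent ⟨f i, hm i⟩) := by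
  classical
  rw [Fintype.linearIndependent_iff]
  intro g hg i
  by_contra hgi
  choose c hc using fun j => residue_surjective (g j)
  have hsum : (maximalIdeal A).toCotangent (∑ j, c j • (⟨f j, hm j⟩ : maximalIdeal A)) = 0 := by
    rw [map_sum, ← hg]
    refine Finset.sum_congr rfl fun j _ => ?_
    rw [map_smul, ← hc j]; rfl
  rw [Ideal.toCotangent_eq_zero, Submodule.coe_sum] at hsum
  simp only [Submodule.coe_smul, smul_eq_mul] at hsum
  rw [Finset.sum_eq_add_sum_sdiff_singleton_of_mem (Finset.mem_univ i)] at hsum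
  have hu : IsUnit (c i) := by
    by_contra hn
    exact hgi (by rw [← hc i, residue_eq_zero_iff]; exact hn)
  refine h i ((Ideal.unit_mul_mem_iff_mem _ hu).1 (Submodule.mem_sup.2
    ⟨_, hsum, -∑ j ∈ Finset.univ \ {i}, c j * f j, neg_mem (Ideal.sum_mem _ fun j hj => ?_), by ring⟩))
  exact Ideal.mul_mem_left _ _ (Ideal.subset_span ⟨j, by simpa using hj, rfl⟩)

/-- A parameter generates a prime ideal. -/
theorem isPrime_span_param [IsRegularLocalRing A] {x : A} (hx : x ∈ maximalIdeal A) (hx2 : x ∉ maximalIdeal A ^ 2) :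
    (Ideal.span {x}).IsPrime := by
  obtain ⟨d, hd⟩ := RegLocal.exists_nat_ringKrullDim A
  obtain ⟨hreg, -, -⟩ := RegLocal.quot_singleton A hd hx hx2
  haveI := hreg
  exact (Ideal.Quotient.isDomain_iff_prime _).mp (RegLocal.isDomain (R := A ⧸ Ideal.span {x}))

theorem mem_maximalIdeal_T [IsLocalRing A] [IsDomain A] (f : Fin r → A) (n : Fin r → ℕ) (hn : ∀ i, 1 ≤ n i)
    [IsLocalRing (SGA1.kummerAlg A f n)] (hm : ∀ i, f i ∈ maximalIdeal A) (i : Fin r) :
    KummerRegLib.T f n i ∈ maximalIdeal (SGA1.kummerAlg A f n) := by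
  haveI := KummerRegLib.module_finite f n hn
  haveI : FaithfulSMul A (SGA1.kummerAlg A f n) :=
    (faithfulSMul_iff_algebraMap_injective A _).2 (KummerRegLib.algebraMap_injective f n hn)
  refine (maximalIdeal.isMaximal _).isPrime.mem_of_pow_mem (n i) ?_
  rw [KummerRegLib.T_pow]
  exact map_nonunit _ _ (hm i)

/-- The residue field of a Kummer algebra is that of the base. -/
theorem residue_surjective_kummer [IsLocalRing A] [IsDomain A] (f : Fin r → A) (n : Fin r → ℕ) (hn : ∀ i, 1 ≤ n i)
    [IsLocalRing (SGA1.kummerAlg A f n)] (hm : ∀ i, f i ∈ maximalIdeal A) :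
    Function.Surjective ((residue (SGA1.kummerAlg A f n)).comp (algebraMap A (SGA1.kummerAlg A f n))) := by
  intro y
  obtain ⟨b, rfl⟩ := residue_surjective y
  obtain ⟨a, ha⟩ := KummerRegLib.sub_mem_span f n b
  refine ⟨a, Eq.symm ?_⟩
  rw [RingHom.comp_apply, ← sub_eq_zero, ← map_sub, residue_eq_zero_iff]
  exact Ideal.span_le.2 (Set.range_subset_iff.2 (mem_maximalIdeal_T f n hn hm)) ha

theorem isSepClosed_kummer [IsLocalRing A] [IsDomain A] [IsSepClosed (ResidueField A)] (f : Fin r → A)
    (n : Fin r → ℕ) (hn : ∀ i, 1 ≤ n i) [IsLocalRing (SGA1.kummerAlg A f n)] (hm : ∀ i, f i ∈ maximalIdeal A) :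
    IsSepClosed (ResidueField (SGA1.kummerAlg A f n)) := by
  haveI := KummerRegLib.module_finite f n hn
  haveI : FaithfulSMul A (SGA1.kummerAlg A f n) :=
    (faithfulSMul_iff_algebraMap_injective A _).2 (KummerRegLib.algebraMap_injective f n hn)
  haveI : IsLocalHom (algebraMap A (SGA1.kummerAlg A f n)) := inferInstance
  let e : ResidueField A ≃+* ResidueField (SGA1.kummerAlg A f n) :=
    RingEquiv.ofBijective (ResidueField.map (algebraMap A (SGA1.kummerAlg A f n))) ⟨RingHom.injective _, fun y => by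
      obtain ⟨a, rfl⟩ := residue_surjective_kummer f n hn hm y
      exact ⟨residue A a, rfl⟩⟩
  exact IsSepClosed.of_exists_root _ fun p _ hp hs => by
    obtain ⟨x, hx⟩ := IsSepClosed.exists_root (p.map e.symm.toRingHom)
      (by rw [Polynomial.degree_map]; exact (Polynomial.degree_pos_of_irreducible hp).ne')
      ((Polynomial.separable_map _).2 hs)
    refine ⟨e x, e.symm.injective ?_⟩
    rw [map_zero, ← hx]
    show e.symm.toRingHom (Polynomial.eval (e x) p) = _
    rw [Polynomial.eval_map, ← Polynomial.eval₂_at_apply,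
      show e.symm.toRingHom (e x) = x from e.symm_apply_apply x]

theorem T_notMem_aux [IsLocalRing A] [IsDomain A] (f : Fin r → A) (n : Fin r → ℕ) (hn : ∀ i, 1 ≤ n i)
    [IsLocalRing (SGA1.kummerAlg A f n)] (hm : ∀ i, f i ∈ maximalIdeal A) (i : Fin r)
    {C : Type u} [CommRing C] [Algebra A C] (x : Fin r → C) (N : Ideal C) (hN : N ^ 2 = ⊥)
    (hx : ∀ j, x j ∈ N) (hφ : ∀ a ∈ maximalIdeal A, algebraMap A C a ∈ N)
    (hpow : ∀ j, x j ^ n j = algebraMap A C (f j)) (hoff : ∀ j, j ≠ i → x j = 0) (hi : x i ≠ 0) :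
    KummerRegLib.T f n i ∉ maximalIdeal (SGA1.kummerAlg A f n) ^ 2 ⊔
      Ideal.span (KummerRegLib.T f n '' {j | j ≠ i}) := by
  let B := SGA1.kummerAlg A f n
  haveI := KummerRegLib.module_finite f n hn
  haveI : FaithfulSMul A (SGA1.kummerAlg A f n) :=
    (faithfulSMul_iff_algebraMap_injective A _).2 (KummerRegLib.algebraMap_injective f n hn)
  let ψ : B →ₐ[A] C := Ideal.Quotient.liftₐ _ (MvPolynomial.aeval x) fun z hz => by
    induction hz using Submodule.span_induction with
    | mem y hy => obtain ⟨j, rfl⟩ := hy; simp [hpow]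
    | zero => simp
    | add y z _ _ hy hz => rw [map_add, hy, hz, add_zero]
    | smul a y _ hy => rw [smul_eq_mul, map_mul, hy, mul_zero]
  have hT : ∀ j, ψ (KummerRegLib.T f n j) = x j := fun j => MvPolynomial.aeval_X x j
  have hMN : maximalIdeal B ≤ N.comap ψ := fun b hb => by
    obtain ⟨a, ha⟩ := KummerRegLib.sub_mem_span f n b
    have hspan : Ideal.span (Set.range (KummerRegLib.T f n)) ≤ N.comap ψ :=
      Ideal.span_le.2 (Set.range_subset_iff.2 fun j => show ψ _ ∈ N from (hT j).symm ▸ hx j)
    have hab : algebraMap A B a ∈ maximalIdeal B := by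
      have h := sub_mem hb (Ideal.span_le.2 (Set.range_subset_iff.2 (mem_maximalIdeal_T f n hn hm)) ha)
      rwa [sub_sub_cancel] at h
    have ha' : a ∈ maximalIdeal A := fun hu => hab (hu.map _)
    have h1 : ψ (algebraMap A B a) ∈ N := by rw [ψ.commutes]; exact hφ a ha'
    have h2 := add_mem (show b - algebraMap A B a ∈ N.comap ψ from hspan ha) (show algebraMap A B a ∈ N.comap ψ from h1)
    rwa [sub_add_cancel] at h2
  intro hmem
  refine hi ?_
  have hle : maximalIdeal B ^ 2 ⊔ Ideal.span (KummerRegLib.T f n '' {j | j ≠ i}) ≤ RingHom.ker ψ := by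
    refine sup_le ?_ (Ideal.span_le.2 ?_)
    · refine (Ideal.pow_right_mono hMN 2).trans ((Ideal.le_comap_pow _ 2).trans ?_)
      rw [hN]; exact le_rfl
    · rintro _ ⟨j, hj, rfl⟩
      exact (hT j).trans (hoff j hj)
  exact (hT i).symm.trans (hle hmem)

/-- In a Kummer algebra the roots are again independent parameters. -/
theorem T_notMem [IsLocalRing A] [IsDomain A] (f : Fin r → A) (n : Fin r → ℕ) (hn : ∀ i, 1 ≤ n i)
    [IsLocalRing (SGA1.kummerAlg A f n)] (hm : ∀ i, f i ∈ maximalIdeal A)
    (hf : LinearIndependent (ResidueField A) (fun i => (maximalIdeal A).toCotangent ⟨f i, hm i⟩)) (i : Fin r) :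
    KummerRegLib.T f n i ∉ maximalIdeal (SGA1.kummerAlg A f n) ^ 2 ⊔
      Ideal.span (KummerRegLib.T f n '' {j | j ≠ i}) := by
  classical
  by_cases h1 : n i = 1
  · let J := maximalIdeal A ^ 2 ⊔ Ideal.span (f '' {j | j ≠ i})
    refine T_notMem_aux f n hn hm i (C := A ⧸ J) (Function.update 0 i (Ideal.Quotient.mk J (f i)))
      ((maximalIdeal A).map (Ideal.Quotient.mk J)) ?_ ?_ (fun a ha => Ideal.mem_map_of_mem _ ha) ?_
      (fun j hj => Function.update_of_ne hj _ _) ?_
    · rw [← Ideal.map_pow, Ideal.map_eq_bot_iff_le_ker, Ideal.mk_ker]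
      exact le_sup_left
    · intro j
      rcases eq_or_ne j i with rfl | hj
      · rw [Function.update_self]; exact Ideal.mem_map_of_mem _ (hm j)
      · rw [Function.update_of_ne hj]; exact zero_mem _
    · intro j
      rcases eq_or_ne j i with rfl | hj
      · rw [Function.update_self, h1, pow_one]; rfl
      · rw [Function.update_of_ne hj, Pi.zero_apply, zero_pow (by have := hn j; omega)]
        exact (Ideal.Quotient.eq_zero_iff_mem.2 (Ideal.mem_sup_right
          (Ideal.subset_span (s := f '' {j | j ≠ i}) ⟨j, hj, rfl⟩))).symm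
    · rw [Function.update_self, Ne, Ideal.Quotient.eq_zero_iff_mem]
      exact notMem_of_linearIndependent f hm hf i
  · let k := ResidueField A
    let C := TrivSqZeroExt k k
    let ε : C := TrivSqZeroExt.inr 1
    refine T_notMem_aux f n hn hm i (C := C) (Function.update 0 i ε)
      (RingHom.ker (TrivSqZeroExt.fstHom k k k).toRingHom) ?_ ?_ (fun a ha => ?_) ?_
      (fun j hj => Function.update_of_ne hj _ _) ?_
    · rw [eq_bot_iff, pow_two, Ideal.mul_le]
      intro a ha b hb
      rw [Ideal.mem_bot]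
      have ha' : a.fst = 0 := ha
      have hb' : b.fst = 0 := hb
      refine TrivSqZeroExt.ext ?_ ?_
      · rw [TrivSqZeroExt.fst_mul, ha', zero_mul, TrivSqZeroExt.fst_zero]
      · rw [TrivSqZeroExt.snd_mul, ha', hb', TrivSqZeroExt.snd_zero]
        simp
    · intro j
      rcases eq_or_ne j i with rfl | hj
      · rw [Function.update_self]; exact TrivSqZeroExt.fst_inr k (1 : k)
      · rw [Function.update_of_ne hj]; exact zero_mem _
    · show (algebraMap A C a).fst = 0
      exact (residue_eq_zero_iff a).2 ha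
    · intro j
      have h0 : algebraMap A C (f j) = 0 := by
        rw [IsScalarTower.algebraMap_apply A k C, ResidueField.algebraMap_eq, (residue_eq_zero_iff _).2 (hm j), map_zero]
      rw [h0]
      rcases eq_or_ne j i with rfl | hj
      · obtain ⟨m, hmj⟩ : ∃ m, n j = m + 2 := ⟨n j - 2, by have := hn j; omega⟩
        rw [Function.update_self, hmj, pow_add, pow_two]
        rw [show ε * ε = 0 from TrivSqZeroExt.inr_mul_inr k (1 : k) 1, mul_zero]
      · rw [Function.update_of_ne hj, Pi.zero_apply, zero_pow (by have := hn j; omega)]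
    · rw [Function.update_self]
      intro h
      exact one_ne_zero (TrivSqZeroExt.inr_injective (R := k) (h.trans (TrivSqZeroExt.inr_zero k).symm))

/-- Each root generates a prime ideal. -/
theorem isPrime_span_T [IsRegularLocalRing A] [IsDomain A] (f : Fin r → A) (n : Fin r → ℕ) (hn : ∀ i, 1 ≤ n i)
    [IsRegularLocalRing (SGA1.kummerAlg A f n)] (hm : ∀ i, f i ∈ maximalIdeal A)
    (hf : LinearIndependent (ResidueField A) (fun i => (maximalIdeal A).toCotangent ⟨f i, hm i⟩)) (i : Fin r) :
    (Ideal.span {KummerRegLib.T f n i}).IsPrime :=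
  isPrime_span_param (mem_maximalIdeal_T f n hn hm i) fun h => T_notMem f n hn hm hf i (Ideal.mem_sup_left h)

/-- Parameters stay parameters in a flat extension with the same maximal ideal. -/
theorem notMem_map [IsLocalRing A] {S : Type u} [CommRing S] [IsLocalRing S] [Algebra A S] [Module.FaithfullyFlat A S]
    (hmap : (maximalIdeal A).map (algebraMap A S) = maximalIdeal S) (f : Fin r → A)
    (hm : ∀ i, f i ∈ maximalIdeal A)
    (hf : LinearIndependent (ResidueField A) (fun i => (maximalIdeal A).toCotangent ⟨f i, hm i⟩)) (i : Fin r) :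
    algebraMap A S (f i) ∉ maximalIdeal S ^ 2 ⊔ Ideal.span ((fun j => algebraMap A S (f j)) '' {j | j ≠ i}) := by
  intro h
  refine notMem_of_linearIndependent f hm hf i ?_
  rw [← Set.image_image (algebraMap A S) f, ← Ideal.map_span, ← hmap, ← Ideal.map_pow, ← Ideal.map_sup] at h
  rw [← Ideal.comap_map_eq_self_of_faithfullyFlat (B := S) (maximalIdeal A ^ 2 ⊔ Ideal.span (f '' {j | j ≠ i}))]
  exact h

end Groth.Agent.AbhyankarAbs
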