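import Groth.Agent.WLocalLib.Olivier

/-! Étale algebras over strictly henselian local rings have only trivial points. -/

set_option autoImplicit false
universe u

namespace Groth.Agent.AbhyankarAbs
open IsLocalRing

theorem mem_range_of_etale {A A' B M : Type u} [CommRing A] [HenselianLocalRing A] [CommRing A'] [IsLocalRing A']
    [IsSepClosed (ResidueField A')] [Algebra A A'] [Module.Finite A A'] [CommRing B] [Algebra A' B]
    [Algebra.Etale A' B] [Module.Finite A' B] [Field M] [Algebra A' M] (ψ : B →ₐ[A'] M) (b : B) :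
    ψ b ∈ Set.range (algebraMap A' M) := by
  classical
  let Q := RingHom.ker ψ.toRingHom
  haveI : Q.IsPrime := RingHom.ker_isPrime _
  let D := B ⧸ Q
  letI : Algebra A D := ((algebraMap A' D).comp (algebraMap A A')).toAlgebra
  haveI : IsScalarTower A A' D := IsScalarTower.of_algebraMap_eq' rfl
  haveI : Module.Finite A' D := Module.Finite.of_surjective (Ideal.Quotient.mkₐ A' Q).toLinearMap Ideal.Quotient.mk_surjective
  haveI : Module.Finite A D := Module.Finite.trans A' D
  haveI : IsLocalRing D := WLocalLib.isLocalRing_of_isIntegral (A := A) D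
  haveI : Algebra.FormallyUnramified A' D :=
    Algebra.FormallyUnramified.of_surjective (Ideal.Quotient.mkₐ A' Q) Ideal.Quotient.mk_surjective
  haveI : IsLocalHom (algebraMap A' D) := ⟨fun a ha => by
    by_contra hna
    have h1 : (maximalIdeal D).comap (algebraMap A' D) = maximalIdeal A' :=
      IsLocalRing.eq_maximalIdeal (Ideal.isMaximal_comap_of_isIntegral_of_isMaximal (R := A') (maximalIdeal D))
    have h2 : algebraMap A' D a ∈ maximalIdeal D := Ideal.mem_comap.1 (h1.symm ▸ hna)
    exact h2 ha⟩
  have hres : Function.Surjective (algebraMap (ResidueField A') (ResidueField D)) :=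
    IsSepClosed.algebraMap_surjective _ _
  have hsurj : Function.Surjective (Algebra.linearMap A' D) := by
    rw [← LinearMap.range_eq_top, ← top_le_iff]
    refine Submodule.le_of_le_smul_of_le_jacobson_bot Module.Finite.fg_top (maximalIdeal_le_jacobson _) fun x _ => ?_
    obtain ⟨y, hy⟩ := hres (residue D x)
    obtain ⟨a, rfl⟩ := residue_surjective y
    refine Submodule.mem_sup.2 ⟨algebraMap A' D a, ⟨a, rfl⟩, x - algebraMap A' D a, ?_, add_sub_cancel _ _⟩
    rw [Ideal.smul_top_eq_map, Algebra.FormallyUnramified.map_maximalIdeal]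
    show x - algebraMap A' D a ∈ maximalIdeal D
    rw [← residue_eq_zero_iff, map_sub, sub_eq_zero]
    exact hy.symm
  obtain ⟨a, ha⟩ := hsurj (Ideal.Quotient.mk Q b)
  refine ⟨a, ?_⟩
  have h := congrArg (Ideal.Quotient.lift Q ψ.toRingHom (fun x hx => hx)) ha
  rw [Ideal.Quotient.lift_mk] at h
  exact (ψ.commutes a).symm.trans h

end Groth.Agent.AbhyankarAbs
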