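import Groth.Agent.AbhyankarAbs.Extend
import Groth.Agent.AbhyankarAbs.Regular
import Groth.Agent.AbhyankarAbs.Split
import Groth.Agent.AbhyankarAbs.Fiber

/-! Over a strictly henselian base only the prime-to-`p` parts of the exponents matter. -/

set_option autoImplicit false
universe u

namespace Groth.Agent.AbhyankarAbs
open IsLocalRing TensorProduct

theorem injective_of_finite {A S C : Type u} [CommRing A] [CommRing S] [IsDomain S] [CommRing C] [Nontrivial C]
    [IsDomain C] [Algebra A S] [Algebra.IsIntegral A S] [Algebra A C] (g : S →ₐ[A] C)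
    (hC : Function.Injective (algebraMap A C)) : Function.Injective g := by
  haveI : Nontrivial A := (algebraMap A C).domain_nontrivial
  rw [← AlgHom.coe_toRingHom, RingHom.injective_iff_ker_eq_bot]
  refine Ideal.eq_bot_of_comap_eq_bot (R := A) ?_
  rw [RingHom.ker_eq_comap_bot, Ideal.comap_comap, g.comp_algebraMap, Ideal.comap_bot_of_injective _ hC]

/-- A valuation ring containing another one with the same centre is equal to it. -/
theorem valuationSubring_eq_of_le {L : Type u} [Field L] {V W : ValuationSubring L} (h : V ≤ W)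
    (hm : ∀ x : L, V.valuation x < 1 → W.valuation x < 1) : W = V := by
  refine le_antisymm (fun x hx => ?_) h
  by_contra hxV
  rcases V.mem_or_inv_mem x with hV | hV
  · exact hxV hV
  · have hx0 : x ≠ 0 := fun h0 => hxV (h0 ▸ V.zero_mem)
    have hnu : V.valuation x⁻¹ < 1 := by
      refine lt_of_le_of_ne ((V.valuation_le_one_iff _).2 hV) fun h1 => hxV ((V.valuation_le_one_iff _).1 ?_)
      rw [map_inv₀, inv_eq_one] at h1
      exact h1.le
    have h2 := hm _ hnu
    rw [map_inv₀] at h2
    have h3 : W.valuation x ≤ 1 := (W.valuation_le_one_iff _).2 hx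
    exact absurd h2 (not_lt.2 ((one_le_inv₀ (lt_of_le_of_ne zero_le' (Ne.symm ((map_ne_zero _).2 hx0)))).2 h3))

/-- Ramification indices in a tower inside the Kummer extension. -/
theorem dvd_of_embedding {A : Type u} [CommRing A] [IsDomain A] [IsNoetherianRing A] [IsIntegrallyClosed A] (π : A)
    (hπ : π ≠ 0) [(Ideal.span {π}).IsPrime] {R : Type u} [CommRing R] [Algebra A R] (q : Ideal R) [q.IsPrime]
    (hq : q.comap (algebraMap A R) = ⊥)
    {A'' : Type u} [CommRing A''] [IsDomain A''] [IsNoetherianRing A''] [IsIntegrallyClosed A''] [Algebra A A'']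
    [Module.Finite A A''] [FaithfulSMul A A''] (x : A'') (m : ℕ) (hm : 1 ≤ m) (hx : x ^ m = algebraMap A A'' π)
    [(Ideal.span {x}).IsPrime]
    {L : Type u} [Field L] [Algebra A'' L] [IsFractionRing A'' L] [Algebra A L] [IsScalarTower A A'' L]
    (ι₁ : q.ResidueField →ₐ[A] L) :
    ∀ (V : ValuationSubring q.ResidueField) (_ : IsDiscreteValuationRing V)
      (hV : EtRam.Dominates (Localization.AtPrime (Ideal.span {π})) (SGA1.genericResidueMap (algebraMap A R) (Ideal.span {π}) q hq) V),
      letI : Algebra (Localization.AtPrime (Ideal.span {π})) V :=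
        (RingHom.codRestrict (SGA1.genericResidueMap (algebraMap A R) (Ideal.span {π}) q hq) V hV.1).toAlgebra
      Ideal.ramificationIdx' (maximalIdeal (Localization.AtPrime (Ideal.span {π}))) (maximalIdeal V) ∣ m := by
  classical
  intro V _ hV
  let Ai := Localization.AtPrime (Ideal.span {π})
  haveI := isDVR_span hπ
  letI : Algebra Ai V := (RingHom.codRestrict (SGA1.genericResidueMap (algebraMap A R) (Ideal.span {π}) q hq) V hV.1).toAlgebra
  have hxπ : algebraMap A A'' π ≠ 0 := (map_ne_zero_iff _ (FaithfulSMul.algebraMap_injective A A'')).2 hπ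
  have hx0 : x ≠ 0 := fun h0 => hxπ (by rw [← hx, h0, zero_pow (by omega)])
  haveI := isDVR_span hx0
  -- the valuation above
  let g : V →+* L := ι₁.toRingHom.comp V.subtype
  obtain ⟨W, hW⟩ := (LocalSubring.range g).exists_le_valuationSubring
  obtain ⟨hle, hloc⟩ := hW
  have hmem : ∀ v : V, g v ∈ W := fun v => hle ⟨v, rfl⟩
  have hlocal : ∀ v : V, v ∈ maximalIdeal V → W.valuation (g v) < 1 := fun v hv => by
    refine (ValuationSubring.valuation_lt_one_iff W ⟨g v, hmem v⟩).1 fun hu => hv ?_
    have h1 : IsUnit (⟨g v, ⟨v, rfl⟩⟩ : (LocalSubring.range g).toSubring) := hloc.map_nonunit _ hu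
    obtain ⟨⟨_, ⟨w, rfl⟩⟩, hw⟩ := h1.exists_right_inv
    refine IsUnit.of_mul_eq_one w ?_
    have h2 : g v * g w = 1 := congrArg Subtype.val hw
    exact Subtype.ext (ι₁.toRingHom.injective (((map_mul g v w).trans h2).trans (map_one g).symm))
  have hcompA : ∀ a, g (algebraMap Ai V (algebraMap A Ai a)) = algebraMap A L a := fun a => by
    show ι₁ (SGA1.genericResidueMap (algebraMap A R) (Ideal.span {π}) q hq (algebraMap A Ai a)) = _
    rw [genericResidueMap_algebraMap, ← IsScalarTower.algebraMap_apply, ι₁.commutes]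
  haveI hlocV : IsLocalHom (algebraMap Ai V) := ⟨fun a ha => by
    by_contra hna
    exact ((ValuationSubring.valuation_lt_one_iff V _).2 (hV.2 a hna)) ha⟩
  -- it contains `A''`
  have hAW : ∀ y : A'', algebraMap A'' L y ∈ W := fun y => by
    letI : Algebra A W := ((algebraMap A L).codRestrict W.toSubring fun a => hcompA a ▸ hmem _).toAlgebra
    haveI : IsScalarTower A W L := IsScalarTower.of_algebraMap_eq fun a => rfl
    obtain ⟨w, hw⟩ := IsIntegrallyClosed.isIntegral_iff.1
      (((Algebra.IsIntegral.isIntegral (R := A) y).map (IsScalarTower.toAlgHom A A'' L)).tower_top (A := W))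
    exact hw ▸ w.2
  let jW : A'' →+* W := (algebraMap A'' L).codRestrict W.toSubring hAW
  let 𝔮 : Ideal A'' := (maximalIdeal W).comap jW
  have h𝔮π : 𝔮.comap (algebraMap A A'') = Ideal.span {π} := by
    ext a
    have h1 : jW (algebraMap A A'' a) = (⟨g (algebraMap Ai V (algebraMap A Ai a)), hmem _⟩ : W) :=
      Subtype.ext ((IsScalarTower.algebraMap_apply A A'' L a).symm.trans (hcompA a).symm)
    show jW (algebraMap A A'' a) ∈ maximalIdeal W ↔ _
    rw [h1]
    constructor
    · intro h
      by_contra ha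
      have hu : IsUnit (algebraMap Ai V (algebraMap A Ai a)) :=
        (IsLocalization.map_units Ai (⟨a, ha⟩ : (Ideal.span {π}).primeCompl)).map _
      refine h ?_
      obtain ⟨w, hw⟩ := hu.exists_right_inv
      exact IsUnit.of_mul_eq_one (⟨g w, hmem w⟩ : W) (Subtype.ext ((map_mul g _ _).symm.trans (by rw [hw, map_one]; rfl)))
    · intro ha
      refine (ValuationSubring.valuation_lt_one_iff W _).2 (hlocal _ (map_nonunit _ _ ?_))
      exact (IsLocalization.AtPrime.to_map_mem_maximal_iff Ai (Ideal.span {π}) a).2 ha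
  have hx𝔮 : x ∈ 𝔮 := by
    refine Ideal.IsPrime.mem_of_pow_mem inferInstance m ?_
    rw [hx, ← Ideal.mem_comap, h𝔮π]
    exact Ideal.mem_span_singleton_self π
  have h𝔮h : 𝔮.height = 1 := by
    rw [height_eq_under (A := A) 𝔮, show 𝔮.under A = 𝔮.comap (algebraMap A A'') from rfl, h𝔮π]
    refine le_antisymm (Ideal.height_le_one_of_isPrincipal_of_mem_minimalPrimes (Ideal.span {π}) (Ideal.span {π}) ?_) ?_
    · rw [Ideal.minimalPrimes_eq_subsingleton_self]; rfl
    · rw [Order.one_le_iff_pos, pos_iff_ne_zero, Ne, Ideal.height_eq_zero_iff_eq_bot, Ideal.span_singleton_eq_bot]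
      exact hπ
  have hx𝔮' : Ideal.span {x} = 𝔮 := by
    refine ((Ideal.span_singleton_le_iff_mem _).2 hx𝔮).antisymm ?_
    by_contra hne
    have hlt : Ideal.span {x} < 𝔮 := lt_of_le_of_ne ((Ideal.span_singleton_le_iff_mem _).2 hx𝔮) fun h => hne h.ge
    have h1 := Ideal.height_strict_mono_of_isPrime hlt
    rw [h𝔮h, Order.lt_one_iff, Ideal.height_eq_zero_iff_eq_bot, Ideal.span_singleton_eq_bot] at h1
    exact hx0 h1
  let Bp := Localization.AtPrime (Ideal.span {x})
  have hu : ∀ s : (Ideal.span {x}).primeCompl, IsUnit (algebraMap A'' L s) := fun s =>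
    isUnit_iff_ne_zero.2 ((map_ne_zero_iff _ (IsFractionRing.injective A'' L)).2 fun h => s.2 (h ▸ Ideal.zero_mem _))
  letI : Algebra Bp L := (IsLocalization.lift (M := (Ideal.span {x}).primeCompl) hu).toAlgebra
  haveI : IsScalarTower A'' Bp L := IsScalarTower.of_algebraMap_eq fun a =>
    (IsLocalization.lift_eq (M := (Ideal.span {x}).primeCompl) hu a).symm
  haveI : IsFractionRing Bp L :=
    IsFractionRing.isFractionRing_of_isDomain_of_isLocalization (Ideal.span {x}).primeCompl Bp L
  obtain ⟨VB, hVB⟩ := exists_valuationSubring (B := Bp) (L := L)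
  let jB : Bp ≃+* VB := RingEquiv.ofBijective ((algebraMap Bp L).codRestrict VB fun b => (hVB _).2 ⟨b, rfl⟩)
    ⟨fun a b h => IsFractionRing.injective Bp L (congrArg Subtype.val h), fun v => by
      obtain ⟨b, hb⟩ := (hVB _).1 v.2
      exact ⟨b, Subtype.ext hb⟩⟩
  have hWB : W = VB := by
    have hunitW : ∀ s : A'', s ∉ Ideal.span {x} → (algebraMap A'' L s)⁻¹ ∈ W ∧ W.valuation (algebraMap A'' L s) = 1 := by
      intro s hs
      have hu : IsUnit (jW s) := not_not.1 fun h => hs (hx𝔮'.ge h)
      obtain ⟨w, hw⟩ := hu.exists_right_inv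
      have h2 : algebraMap A'' L s * (w : L) = 1 := congrArg Subtype.val hw
      refine ⟨(eq_inv_of_mul_eq_one_right h2) ▸ w.2, ?_⟩
      exact (ValuationSubring.valuation_eq_one_iff W (jW s)).1 hu
    refine valuationSubring_eq_of_le (fun y hy => ?_) (fun y hy => ?_)
    · obtain ⟨b, rfl⟩ := (hVB y).1 hy
      obtain ⟨a, ⟨s, hs⟩, rfl⟩ := IsLocalization.exists_mk'_eq (Ideal.span {x}).primeCompl b
      have h1 : algebraMap Bp L (IsLocalization.mk' Bp a ⟨s, hs⟩) = algebraMap A'' L a * (algebraMap A'' L s)⁻¹ := by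
        refine (eq_mul_inv_iff_mul_eq₀ ((map_ne_zero_iff _ (IsFractionRing.injective A'' L)).2
          fun h => hs (by rw [h]; exact Ideal.zero_mem _))).2 ?_
        rw [IsScalarTower.algebraMap_apply A'' Bp L s, ← map_mul, IsLocalization.mk'_spec, ← IsScalarTower.algebraMap_apply]
      rw [h1]
      exact W.mul_mem _ _ (hAW a) (hunitW s hs).1
    · have hyV : y ∈ VB := (VB.valuation_le_one_iff _).1 hy.le
      obtain ⟨b, rfl⟩ := (hVB y).1 hyV
      obtain ⟨a, ⟨s, hs⟩, rfl⟩ := IsLocalization.exists_mk'_eq (Ideal.span {x}).primeCompl b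
      have ha : a ∈ Ideal.span {x} := by
        by_contra ha
        have hb : IsUnit (IsLocalization.mk' Bp a (⟨s, hs⟩ : (Ideal.span {x}).primeCompl)) :=
          (IsLocalization.AtPrime.isUnit_mk'_iff Bp _ a _).2 ha
        exact hy.ne ((ValuationSubring.valuation_eq_one_iff VB (jB (IsLocalization.mk' Bp a ⟨s, hs⟩))).1 (hb.map jB))
      have h1 : algebraMap Bp L (IsLocalization.mk' Bp a ⟨s, hs⟩) = algebraMap A'' L a * (algebraMap A'' L s)⁻¹ := by
        refine (eq_mul_inv_iff_mul_eq₀ ((map_ne_zero_iff _ (IsFractionRing.injective A'' L)).2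
          fun h => hs (by rw [h]; exact Ideal.zero_mem _))).2 ?_
        rw [IsScalarTower.algebraMap_apply A'' Bp L s, ← map_mul, IsLocalization.mk'_spec, ← IsScalarTower.algebraMap_apply]
      rw [h1, map_mul, map_inv₀, (hunitW s hs).2, inv_one, mul_one]
      exact (ValuationSubring.valuation_lt_one_iff W (jW a)).1 (hx𝔮'.le ha)
  subst hWB
  let φ : V →+* Bp := jB.symm.toRingHom.comp (g.codRestrict W.toSubring hmem)
  have hφL : ∀ v, algebraMap Bp L (φ v) = g v := fun v =>
    congrArg Subtype.val (jB.apply_symm_apply ⟨g v, hmem v⟩)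
  haveI : IsLocalHom φ := ⟨fun v hv => by
    by_contra hnv
    exact ((ValuationSubring.valuation_lt_one_iff W ⟨g v, hmem v⟩).2 (hlocal v hnv))
      (by have := hv.map jB.toRingHom; rwa [show jB.toRingHom (φ v) = (⟨g v, hmem v⟩ : W) from jB.apply_symm_apply _] at this)⟩
  have hφinj : Function.Injective φ := fun a b h => by
    have : g a = g b := by rw [← hφL, h, hφL]
    exact Subtype.ext (ι₁.toRingHom.injective this)
  obtain ⟨ϖ, hϖ⟩ := IsDiscreteValuationRing.exists_irreducible V
  have hπB : φ (algebraMap Ai V (algebraMap A Ai π)) ≠ 0 := fun h => hxπ (IsFractionRing.injective A'' L (by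
    rw [← IsScalarTower.algebraMap_apply, ← hcompA, ← hφL, h, map_zero, map_zero]))
  have hinjV : Function.Injective (algebraMap Ai V) := by
    rw [RingHom.injective_iff_ker_eq_bot]
    by_contra hk
    haveI : (RingHom.ker (algebraMap Ai V)).IsPrime := RingHom.ker_isPrime _
    have hmax : (RingHom.ker (algebraMap Ai V)).IsMaximal := Ideal.IsPrime.isMaximal inferInstance hk
    have hmem' : algebraMap A Ai π ∈ RingHom.ker (algebraMap Ai V) := by
      rw [IsLocalRing.eq_maximalIdeal hmax, IsLocalization.AtPrime.to_map_mem_maximal_iff Ai (Ideal.span {π})]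
      exact Ideal.mem_span_singleton_self π
    exact hπB (by rw [RingHom.mem_ker.1 hmem', map_zero])
  obtain ⟨u, hu', -⟩ := WeakUnram.exists_eq_unit_mul_pow hinjV (irreducible_span (π := π)) hϖ
  have h1 := congrArg φ hu'
  rw [map_mul, map_pow] at h1
  have h2 : φ (algebraMap Ai V (algebraMap A Ai π)) = algebraMap A'' Bp x ^ m := by
    refine IsFractionRing.injective Bp L ?_
    rw [hφL, hcompA, ← map_pow, hx, ← IsScalarTower.algebraMap_apply, ← IsScalarTower.algebraMap_apply]
  have hirr : Irreducible (algebraMap A'' Bp x) := irreducible_span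
  have hϖ0 : φ ϖ ≠ 0 := (map_ne_zero_iff _ hφinj).2 hϖ.ne_zero
  obtain ⟨k, w, hw⟩ := IsDiscreteValuationRing.eq_unit_mul_pow_irreducible hϖ0 hirr
  rw [h2, hw, mul_pow, ← pow_mul, ← mul_assoc] at h1
  set e := Ideal.ramificationIdx' (maximalIdeal Ai) (maximalIdeal V)
  have h3 : ((1 : Bpˣ) : Bp) * algebraMap A'' Bp x ^ m = ((Units.map φ.toMonoidHom u * w ^ e : Bpˣ) : Bp) * algebraMap A'' Bp x ^ (k * e) := by
    rw [Units.val_one, one_mul, Units.val_mul, Units.val_pow_eq_pow_val]
    exact h1
  exact ⟨k, by rw [mul_comm e k]; exact IsDiscreteValuationRing.unit_mul_pow_congr_pow hirr hirr _ _ _ _ h3⟩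

end Groth.Agent.AbhyankarAbs
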