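import Groth.Agent.AbhyankarAbs.Strict

/-! The prime-to-`p` exponents suffice over a strictly henselian base. -/

set_option autoImplicit false
universe u

namespace Groth.Agent.AbhyankarAbs
open IsLocalRing TensorProduct

/-- Frobenius powers of `A'` lie in `A''` modulo `p`. -/
theorem pow_mem_mod {A A' A'' : Type u} [CommRing A] [CommRing A'] [CommRing A''] [Algebra A A'] [Algebra A A'']
    (θ : A'' →ₐ[A] A') (p : ℕ) (hp : p.Prime) (N : ℕ) (G : Set A') (hG : Algebra.adjoin A G = ⊤)
    (hgen : ∀ y ∈ G, y ^ p ^ N ∈ θ.range) (y : A') : ∃ (a : A'') (z : A'), y ^ p ^ N = θ a + (p : A') * z := by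
  have hy : y ∈ Algebra.adjoin A G := hG ▸ Algebra.mem_top
  induction hy using Algebra.adjoin_induction with
  | mem x hx => obtain ⟨a, ha⟩ := hgen x hx; exact ⟨a, 0, by rw [mul_zero, add_zero]; exact ha.symm⟩
  | algebraMap c => exact ⟨algebraMap A A'' c ^ p ^ N, 0, by rw [map_pow, θ.commutes, mul_zero, add_zero]⟩
  | add u v _ _ hu hv =>
    obtain ⟨a, z, ha⟩ := hu
    obtain ⟨b, w, hb⟩ := hv
    obtain ⟨r, hr⟩ := exists_add_pow_prime_pow_eq hp u v N
    exact ⟨a + b, z + w + u * v * r, by rw [hr, ha, hb, map_add]; ring⟩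
  | mul u v _ _ hu hv =>
    obtain ⟨a, z, ha⟩ := hu
    obtain ⟨b, w, hb⟩ := hv
    exact ⟨a * b, θ a * w + θ b * z + (p : A') * z * w, by rw [mul_pow, ha, hb, map_mul]; ring⟩

/-- The tame cover is split by the Kummer algebra with prime-to-`p` exponents. -/
theorem exists_embedding {A : Type u} [CommRing A] [IsDomain A] [IsNoetherianRing A] [IsIntegrallyClosed A]
    [HenselianLocalRing A] {r : ℕ} (f : Fin r → A) [∀ i, (Ideal.span {f i}).IsPrime] (hne : ∀ i, f i ≠ 0)
    {R : Type u} [CommRing R] [Algebra A R] [Algebra (Localization.Away (∏ i, f i)) R]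
    [IsScalarTower A (Localization.Away (∏ i, f i)) R]
    [Algebra.Etale (Localization.Away (∏ i, f i)) R] [Module.Finite (Localization.Away (∏ i, f i)) R]
    (htame : SGA1.IsTameAlong f (algebraMap A R))
    (A'' : Type u) [CommRing A''] [IsDomain A''] [IsIntegrallyClosed A''] [IsNoetherianRing A''] [Algebra A A'']
    [Module.Finite A A''] (hinj'' : Function.Injective (algebraMap A A''))
    (n' : Fin r → ℕ) (x : Fin r → A'') (hx : ∀ i, x i ^ n' i = algebraMap A A'' (f i))
    (A' : Type u) [CommRing A'] [IsDomain A'] [IsIntegrallyClosed A'] [IsLocalRing A'] [IsSepClosed (ResidueField A')]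
    [Algebra A A'] [Module.Finite A A'] (hinj' : Function.Injective (algebraMap A A'))
    (θ : A'' →ₐ[A] A') (p : ℕ) (hp : p.Prime) (N : ℕ)
    (hθ : ∀ y : A', ∃ (a : A'') (z : A'), y ^ p ^ N = θ a + (p : A') * z)
    (B : Type u) [CommRing B] [Algebra A' B] [Algebra.Etale A' B] [Module.Finite A' B]
    (σ : B →ₐ[A'] A' ⊗[A] R)
    (hσ : @IsLocalization.Away _ _ (algebraMap A' B (algebraMap A A' (∏ i, f i))) (A' ⊗[A] R) _ σ.toRingHom.toAlgebra)
    (𝔭 : Ideal A'') [𝔭.IsPrime] (hp𝔭 : (p : A'') ∈ 𝔭) (h𝔭 : 𝔭.height ≤ 1)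
    (hdvd : ∀ i, algebraMap A A'' (f i) ∈ 𝔭 → DvdAt (algebraMap A R) (Ideal.span {f i}) (n' i))
    (hp0 : (p : A) ≠ 0) (q : Ideal R) [q.IsPrime] (hq : q.comap (algebraMap A R) = ⊥) :
    ∃ (L : Type u) (_ : Field L) (_ : Algebra A'' L) (_ : Algebra A L), IsScalarTower A A'' L ∧ IsFractionRing A'' L ∧
      Nonempty (q.ResidueField →ₐ[A] L) := by
  classical
  let F := ∏ i, f i
  have hF : F ≠ 0 := Finset.prod_ne_zero_iff.2 fun i _ => hne i
  let K := FractionRing A
  let Ω := AlgebraicClosure K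
  have hAΩ : Function.Injective (algebraMap A Ω) := by
    rw [IsScalarTower.algebraMap_eq A K Ω]; exact (algebraMap K Ω).injective.comp (IsFractionRing.injective A K)
  haveI : FaithfulSMul A Ω := (faithfulSMul_iff_algebraMap_injective A Ω).2 hAΩ
  haveI : FaithfulSMul A A' := (faithfulSMul_iff_algebraMap_injective A A').2 hinj'
  haveI : FaithfulSMul A A'' := (faithfulSMul_iff_algebraMap_injective A A'').2 hinj''
  let ρ : A' →ₐ[A] Ω := IsAlgClosed.lift
  have hρ : Function.Injective ρ := injective_of_finite ρ hAΩ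
  let ρ'' : A'' →ₐ[A] Ω := ρ.comp θ
  have hρ'' : Function.Injective ρ'' := injective_of_finite ρ'' hAΩ
  -- the point of the generic fibre
  let K₁ := q.ResidueField
  have hinjK : Function.Injective (algebraMap A K₁) := by
    rw [IsScalarTower.algebraMap_eq A R K₁, RingHom.injective_iff_ker_eq_bot, ← RingHom.comap_ker,
      Ideal.ker_algebraMap_residueField]
    exact hq
  letI : Algebra K K₁ := (IsFractionRing.lift hinjK).toAlgebra
  haveI : IsScalarTower A K K₁ := IsScalarTower.of_algebraMap_eq fun a => (IsFractionRing.lift_algebraMap hinjK a).symm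
  obtain ⟨hfd, -⟩ := separable_finite_of_etale F hF K (IsScalarTower.toAlgHom A R K₁) (residueField_fractions q)
  let ψK : K₁ →ₐ[K] Ω := IsAlgClosed.lift
  let ψ : R →ₐ[A] Ω := (ψK.restrictScalars A).comp (IsScalarTower.toAlgHom A R K₁)
  let Φ' : A' ⊗[A] R →ₐ[A] Ω := Algebra.TensorProduct.lift ρ ψ fun _ _ => Commute.all _ _
  let Φ : A'' ⊗[A] R →ₐ[A] Ω := Algebra.TensorProduct.lift ρ'' ψ fun _ _ => Commute.all _ _
  let O' := ρ.toRingHom.range
  let E := Subfield.closure (O' : Set Ω)
  have hO' : ∀ a, ρ a ∈ E := fun a => Subfield.subset_closure ⟨a, rfl⟩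
  letI : Algebra A' Ω := ρ.toRingHom.toAlgebra
  have hψE : ∀ r : R, ψ r ∈ E := by
    intro r
    let ψB : B →ₐ[A'] Ω :=
      { Φ'.toRingHom.comp σ.toRingHom with
        commutes' := fun a => by
          show Φ' (σ (algebraMap A' B a)) = ρ a
          rw [σ.commutes]
          show Φ' (a ⊗ₜ[A] (1 : R)) = ρ a
          rw [Algebra.TensorProduct.lift_tmul, map_one, mul_one] }
    letI := σ.toRingHom.toAlgebra
    haveI := hσ
    obtain ⟨⟨b, ⟨_, k, rfl⟩⟩, hb⟩ :=
      IsLocalization.surj (Submonoid.powers (algebraMap A' B (algebraMap A A' F))) ((1 : A') ⊗ₜ[A] r)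
    have hb' := congrArg Φ' (show ((1 : A') ⊗ₜ[A] r) * σ (algebraMap A' B (algebraMap A A' F) ^ k) = σ b from hb)
    rw [map_mul, map_pow, map_pow, σ.commutes,
      show algebraMap A' (A' ⊗[A] R) (algebraMap A A' F) = algebraMap A A' F ⊗ₜ[A] (1 : R) from rfl,
      Algebra.TensorProduct.lift_tmul, Algebra.TensorProduct.lift_tmul, map_one, map_one, one_mul, mul_one,
      ρ.commutes] at hb'
    obtain ⟨c, hc⟩ := mem_range_of_etale (A := A) ψB b
    have hF0 : algebraMap A Ω F ^ k ≠ 0 := pow_ne_zero _ ((map_ne_zero_iff _ hAΩ).2 hF)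
    rw [eq_div_of_mul_eq hF0 hb', show Φ' (σ b) = ρ c from hc.symm]
    exact E.div_mem (hO' c) (E.pow_mem (ρ.commutes F ▸ hO' _) k)
  -- the component
  let P : Ideal (A'' ⊗[A] R) := RingHom.ker Φ.toRingHom
  haveI : P.IsPrime := RingHom.ker_isPrime _
  have hΦ'' : ∀ a, Φ (algebraMap A'' (A'' ⊗[A] R) a) = ρ'' a := fun a => by
    show Φ (a ⊗ₜ[A] (1 : R)) = _
    rw [Algebra.TensorProduct.lift_tmul, map_one, mul_one]
  have hP : P.comap (algebraMap A'' (A'' ⊗[A] R)) = ⊥ := by
    refine eq_bot_iff.2 fun a ha => ?_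
    have h : ρ'' a = 0 := (hΦ'' a).symm.trans (Ideal.mem_comap.1 ha)
    exact (map_eq_zero_iff _ hρ'').1 h
  let L := P.ResidueField
  let S := integralClosure A'' L
  obtain ⟨_, hfin, _⟩ := component_basic f hne A'' hinj'' P hP
  let ιq : (A'' ⊗[A] R) ⧸ P →+* Ω := Ideal.Quotient.lift P Φ.toRingHom fun x hx => hx
  have hιq : Function.Injective ιq := RingHom.lift_injective_of_ker_le_ideal P _ le_rfl
  let ι : L →+* Ω := IsFractionRing.lift hιq
  have hι : ∀ t, ι (algebraMap (A'' ⊗[A] R) L t) = Φ t := fun t =>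
    IsFractionRing.lift_algebraMap hιq (Ideal.Quotient.mk P t)
  have hιA'' : ∀ a, ι (algebraMap A'' L a) = ρ'' a := fun a => by
    rw [IsScalarTower.algebraMap_apply A'' (A'' ⊗[A] R) L, hι, hΦ'']
  have hιE : ∀ z : L, ι z ∈ E := by
    have hT : ∀ t : A'' ⊗[A] R, Φ t ∈ E := fun t => by
      induction t using TensorProduct.induction_on with
      | zero => rw [map_zero]; exact E.zero_mem
      | add y z hy hz => rw [map_add]; exact E.add_mem hy hz
      | tmul a y => rw [Algebra.TensorProduct.lift_tmul]; exact E.mul_mem (hO' (θ a)) (hψE y)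
    intro z
    obtain ⟨u, v, hv, h⟩ := residueField_fractions P z
    rw [eq_div_of_mul_eq hv h, map_div₀, hι, hι]
    exact E.div_mem (hT u) (hT v)
  -- integral elements of the component
  have hint : ∀ s : S, ∃ y : A', ρ y = ι s.1 := by
    intro s
    have hs : IsIntegral A' (ι s.1) := by
      have h1 : IsIntegral A'' s.1 := s.2
      obtain ⟨g, hg, hev⟩ := h1
      refine ⟨g.map θ.toRingHom, hg.map _, ?_⟩
      rw [Polynomial.eval₂_map, show (algebraMap A' Ω).comp θ.toRingHom = ι.comp (algebraMap A'' L) from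
        RingHom.ext fun a => (hιA'' a).symm, ← Polynomial.hom_eval₂, hev, map_zero]
    let K' := FractionRing A'
    letI : Algebra K' Ω := (IsFractionRing.lift (K := K') hρ).toAlgebra
    haveI : IsScalarTower A' K' Ω := IsScalarTower.of_algebraMap_eq fun a => (IsFractionRing.lift_algebraMap hρ a).symm
    obtain ⟨u, hu, v, hv, huv⟩ := Subfield.mem_closure_iff.1 (hιE s.1)
    rw [Subring.closure_eq] at hu hv
    obtain ⟨u, rfl⟩ := hu
    obtain ⟨v, rfl⟩ := hv
    have hz : algebraMap K' Ω (algebraMap A' K' u / algebraMap A' K' v) = ι s.1 := by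
      rw [map_div₀, ← IsScalarTower.algebraMap_apply, ← IsScalarTower.algebraMap_apply]; exact huv
    rw [← hz, isIntegral_algebraMap_iff (algebraMap K' Ω).injective] at hs
    obtain ⟨y, hy⟩ := IsIntegrallyClosed.isIntegral_iff.1 hs
    exact ⟨y, by rw [← hz, ← hy, ← IsScalarTower.algebraMap_apply]; rfl⟩
  haveI : FaithfulSMul A'' S := (faithfulSMul_iff_algebraMap_injective A'' S).2 fun a b h =>
    hρ'' (by rw [← hιA'', ← hιA'']; exact congrArg ι (congrArg Subtype.val h))
  haveI : Algebra.IsIntegral A A' := Algebra.IsIntegral.of_finite A A'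
  have hpow : ∀ s : S, ∃ (a : A'') (z : S), s ^ p ^ N = algebraMap A'' S a + (p : S) * z := by
    intro s
    obtain ⟨y, hy⟩ := hint s
    obtain ⟨a, z, haz⟩ := hθ y
    have hpL : (p : L) ≠ 0 := fun h => hp0 (hAΩ (by
      rw [map_natCast, map_zero, ← map_natCast ι, h, map_zero]))
    let zL : L := ((s ^ p ^ N : S).1 - algebraMap A'' L a) / p
    have hzL : ι zL = ρ z := by
      show ι ((((s ^ p ^ N : S) : L) - algebraMap A'' L a) / p) = _
      rw [map_div₀, map_sub, Subalgebra.coe_pow, map_pow, ← hy, hιA'', ← map_pow, haz, map_natCast, div_eq_iff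
        (fun h => hpL ((map_eq_zero_iff _ ι.injective).1 (by rw [map_natCast]; exact h)))]
      show ρ (θ a + (p : A') * z) - ρ (θ a) = _
      rw [map_add, map_mul, map_natCast]; ring
    letI : Algebra A L := ((algebraMap A'' L).comp (algebraMap A A'')).toAlgebra
    haveI : IsScalarTower A A'' L := IsScalarTower.of_algebraMap_eq' rfl
    let ιA : L →ₐ[A] Ω := { ι with commutes' := fun c => (hιA'' _).trans (ρ''.commutes c) }
    have h1 : IsIntegral A (ιA zL) := by
      show IsIntegral A (ι zL)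
      rw [hzL]
      exact (Algebra.IsIntegral.isIntegral (R := A) z).map ρ
    have h2 : IsIntegral A'' zL := ((isIntegral_algHom_iff ιA ι.injective).1 h1).tower_top
    refine ⟨a, ⟨zL, h2⟩, Subtype.ext ?_⟩
    show ((s ^ p ^ N : S) : L) = algebraMap A'' L a + ((p : S) : L) * zL
    rw [show ((p : S) : L) = (p : L) from map_natCast S.val p, mul_div_cancel₀ _ hpL, add_sub_cancel]
  haveI : Module.Finite A'' S := hfin
  obtain ⟨s, hs, hsx⟩ := exists_mul_mem_range (R := A'') (S := S) 𝔭 p hp hp𝔭 N hpow fun Q _ hQ =>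
    component_unramifiedAt f hne htame A'' hinj'' P hP n' x hx Q (hQ ▸ h𝔭) fun i hi => hdvd i (hQ ▸ hi)
  have hA''L : Function.Injective (algebraMap A'' L) := fun a b h => hρ'' (by rw [← hιA'', ← hιA'', h])
  have hs0 : algebraMap A'' L s ≠ 0 := (map_ne_zero_iff _ hA''L).2 fun h => hs (h ▸ 𝔭.zero_mem)
  letI : Algebra A L := ((algebraMap A'' L).comp (algebraMap A A'')).toAlgebra
  haveI : IsScalarTower A A'' L := IsScalarTower.of_algebraMap_eq' rfl
  haveI : FaithfulSMul A'' L := (faithfulSMul_iff_algebraMap_injective A'' L).2 hA''L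
  refine ⟨L, inferInstance, inferInstance, inferInstance, inferInstance,
    IsFractionRing.of_field A'' L fun z => ?_, ⟨?_⟩⟩
  · obtain ⟨u, v, hv, rfl⟩ := IsFractionRing.div_surjective S z
    obtain ⟨a, ha⟩ := hsx u
    obtain ⟨b, hb⟩ := hsx v
    refine ⟨a, b, ?_⟩
    have ha' : algebraMap A'' L a = algebraMap A'' L s * algebraMap S L u := congrArg Subtype.val ha
    have hb' : algebraMap A'' L b = algebraMap A'' L s * algebraMap S L v := congrArg Subtype.val hb
    rw [ha', hb', mul_div_mul_left _ _ hs0]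
  · refine
      { Ideal.ResidueField.map q P (Algebra.TensorProduct.includeRight : R →ₐ[A] A'' ⊗[A] R).toRingHom ?_ with
        commutes' := fun c => ?_ }
    · ext r
      show r ∈ q ↔ Φ ((1 : A'') ⊗ₜ[A] r) = 0
      rw [Algebra.TensorProduct.lift_tmul, map_one, one_mul]
      show r ∈ q ↔ ψK (algebraMap R K₁ r) = 0
      rw [← Ideal.algebraMap_residueField_eq_zero (I := q)]
      exact (map_eq_zero ψK.toRingHom).symm
    · show Ideal.ResidueField.map q P _ _ (algebraMap A q.ResidueField c) = _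
      rw [IsScalarTower.algebraMap_apply A R q.ResidueField, Ideal.ResidueField.map_algebraMap]
      show algebraMap (A'' ⊗[A] R) L ((1 : A'') ⊗ₜ[A] algebraMap A R c) = algebraMap A'' L (algebraMap A A'' c)
      rw [IsScalarTower.algebraMap_apply A'' (A'' ⊗[A] R) L]
      exact congrArg _ (((Algebra.TensorProduct.includeRight : R →ₐ[A] A'' ⊗[A] R).commutes c).trans
        ((Algebra.TensorProduct.includeLeft : A'' →ₐ[A] A'' ⊗[A] R).commutes c).symm)

end Groth.Agent.AbhyankarAbs
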